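import Mathlib
import Cfsg.Agent.FG38.RealElements

/-!
Real classes: index bookkeeping, products of classes of coprime size, lifting of real elements of odd
prime order.
-/

set_option autoImplicit false

namespace Cfsg.Agent.RealGraph72

open Subgroup

variable {G : Type*} [Group G]

/-- size of the class of `x`, as the index of its centralizer -/
noncomputable def cs (x : G) : ℕ := (centralizer ({x} : Set G)).index

theorem mem_cent {x g : G} : g ∈ centralizer ({x} : Set G) ↔ g * x = x * g :=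
  mem_centralizer_singleton_iff

theorem mem_cent' {x g : G} : g ∈ centralizer ({x} : Set G) ↔ g * x * g⁻¹ = x := by
  rw [mem_cent, mul_inv_eq_iff_eq_mul]

theorem isConj_conj (g x : G) : IsConj x (g * x * g⁻¹) := isConj_iff.mpr ⟨g, rfl⟩

theorem real_conj {x : G} (hx : IsConj x x⁻¹) (g : G) :
    IsConj (g * x * g⁻¹) (g * x * g⁻¹)⁻¹ := by
  have h : IsConj x⁻¹ (g * x * g⁻¹)⁻¹ := by
    have := isConj_conj g x⁻¹
    rwa [show g * x⁻¹ * g⁻¹ = (g * x * g⁻¹)⁻¹ by group] at this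
  exact ((isConj_conj g x).symm.trans hx).trans h

theorem real_pow {x : G} (hx : IsConj x x⁻¹) (m : ℕ) : IsConj (x ^ m) (x ^ m)⁻¹ := by
  obtain ⟨g, hg⟩ := isConj_iff.mp hx
  exact isConj_iff.mpr ⟨g, by rw [← conj_pow, hg, inv_pow]⟩

theorem real_of_sq {x : G} (hx : x * x = 1) : IsConj x x⁻¹ := by
  rw [inv_eq_of_mul_eq_one_right hx]

theorem conj_inv_of_inverts {g x : G} (h : g * x * g⁻¹ = x⁻¹) : g * x⁻¹ * g⁻¹ = x := by
  rw [← conj_inv, h, inv_inv]

theorem cs_dvd_of_le {x y : G} (h : centralizer ({y} : Set G) ≤ centralizer ({x} : Set G)) :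
    cs x ∣ cs y := index_dvd_of_le h

variable [Finite G]

theorem cs_ne_zero (x : G) : cs x ≠ 0 := index_ne_zero_of_finite

theorem cs_eq_ncard (x : G) : cs x = Set.ncard {z : G | IsConj x z} := by
  have hstab : (MulAction.stabilizer (ConjAct G) x).index
      = (MulAction.orbit (ConjAct G) x).ncard := MulAction.index_stabilizer _ _
  have h2 : cs x = (MulAction.stabilizer (ConjAct G) x).index := by
    rw [cs, ConjAct.stabilizer_eq_centralizer]
    rfl
  rw [h2, hstab, ConjAct.orbit_eq_carrier_conjClasses]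
  congr 1

theorem two_dvd_cs {x : G} (hr : IsConj x x⁻¹) (hx : x * x ≠ 1) : 2 ∣ cs x := by
  by_contra h
  have hodd : Odd (centralizer ({x} : Set G)).index :=
    Nat.not_even_iff_odd.mp fun he => h he.two_dvd
  exact hx (by rw [← pow_two]; exact (FG38.real_basic x hr).2.1 hodd)

theorem sq_eq_one_of_cs_odd {x : G} (hr : IsConj x x⁻¹) (hx : ¬ 2 ∣ cs x) : x * x = 1 :=
  by_contra fun h => hx (two_dvd_cs hr h)

omit [Finite G] in
theorem mul_self_ne_one_of_odd {x : G} (hx : Odd (orderOf x)) (h1 : x ≠ 1) : x * x ≠ 1 := by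
  intro h
  have : orderOf x ∣ 2 := orderOf_dvd_of_pow_eq_one (by rw [pow_two]; exact h)
  rcases (Nat.dvd_prime Nat.prime_two).mp this with e | e
  · exact h1 (orderOf_eq_one_iff.mp e)
  · rw [e] at hx; exact absurd hx (by decide)

omit [Finite G] in
theorem mem_of_sq_mem_of_odd {H : Subgroup G} {x : G} (hx : Odd (orderOf x)) (h : x * x ∈ H) :
    x ∈ H := by
  obtain ⟨k, hk⟩ := hx
  have : x = (x * x) ^ (k + 1) := by
    rw [← pow_two, ← pow_mul, show 2 * (k + 1) = orderOf x + 1 by omega, pow_succ,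
      pow_orderOf_eq_one, one_mul]
  rw [this]
  exact H.pow_mem h _

theorem exists_conj_mem_of_not_dvd_index {p : ℕ} [Fact p.Prime] (H : Subgroup G)
    (hH : ¬ p ∣ H.index) (t : G) (ht : ∃ k, orderOf t = p ^ k) :
    ∃ g : G, g⁻¹ * t * g ∈ H := by
  obtain ⟨k, hk⟩ := ht
  have hP : IsPGroup p (zpowers t) := IsPGroup.of_card (n := k) (by rw [Nat.card_zpowers, hk])
  obtain ⟨q, hq⟩ := hP.nonempty_fixed_point_of_prime_not_dvd_card (G ⧸ H)
    (by rwa [← index_eq_card])
  obtain ⟨g, rfl⟩ := QuotientGroup.mk_surjective q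
  refine ⟨g, ?_⟩
  have h := hq ⟨t, mem_zpowers t⟩
  change ((t * g : G) : G ⧸ H) = (g : G ⧸ H) at h
  rw [eq_comm, QuotientGroup.eq] at h
  simpa [mul_assoc] using h

theorem exists_mul_of_coprime_index (H K : Subgroup G) (h : Nat.Coprime H.index K.index) (g : G) :
    ∃ c ∈ H, ∃ d ∈ K, g = c * d := by
  classical
  have hinf : (H ⊓ K).index = H.index * K.index :=
    le_antisymm index_inf_le (Nat.le_of_dvd (Nat.pos_of_ne_zero index_ne_zero_of_finite)
      (h.mul_dvd_of_dvd_of_dvd (index_dvd_of_le inf_le_left) (index_dvd_of_le inf_le_right)))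
  have hrel : (H ⊓ K).relIndex H = K.index := by
    have := relIndex_mul_index (inf_le_left : H ⊓ K ≤ H)
    rw [hinf] at this
    exact Nat.eq_of_mul_eq_mul_right (Nat.pos_of_ne_zero index_ne_zero_of_finite)
      (this.trans (mul_comm _ _))
  rw [inf_relIndex_left] at hrel
  have horb : (MulAction.orbit H ((1 : G) : G ⧸ K)).ncard = K.index := by
    rw [← MulAction.index_stabilizer, ← hrel, relIndex]
    congr 1
    ext ⟨c, hc⟩
    rw [MulAction.mem_stabilizer_iff, mem_subgroupOf]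
    change (((c * 1 : G)) : G ⧸ K) = ((1 : G) : G ⧸ K) ↔ c ∈ K
    rw [mul_one, eq_comm, QuotientGroup.eq, inv_one, one_mul]
  have huniv : MulAction.orbit H ((1 : G) : G ⧸ K) = Set.univ :=
    Set.eq_of_subset_of_ncard_le (Set.subset_univ _)
      (by rw [Set.ncard_univ, horb, index_eq_card]) (Set.toFinite _)
  have hg : ((g : G) : G ⧸ K) ∈ MulAction.orbit H ((1 : G) : G ⧸ K) := by
    rw [huniv]; trivial
  obtain ⟨⟨c, hc⟩, he⟩ := hg
  change (((c * 1 : G)) : G ⧸ K) = (g : G ⧸ K) at he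
  rw [mul_one, QuotientGroup.eq] at he
  exact ⟨c, hc, c⁻¹ * g, he, by group⟩

theorem index_inf_of_coprime (H K : Subgroup G) (h : Nat.Coprime H.index K.index) :
    (H ⊓ K).index = H.index * K.index :=
  le_antisymm index_inf_le (Nat.le_of_dvd (Nat.pos_of_ne_zero index_ne_zero_of_finite)
    (h.mul_dvd_of_dvd_of_dvd (index_dvd_of_le inf_le_left) (index_dvd_of_le inf_le_right)))

theorem isConj_mul_of_coprime {x y : G} (h : Nat.Coprime (cs x) (cs y)) {x' y' : G}
    (hx : IsConj x x') (hy : IsConj y y') : IsConj (x * y) (x' * y') := by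
  obtain ⟨g, rfl⟩ := isConj_iff.mp hx
  obtain ⟨k, rfl⟩ := isConj_iff.mp hy
  obtain ⟨c, hc, d, hd, e⟩ := exists_mul_of_coprime_index _ _ h (g⁻¹ * k)
  have hk : k = g * (c * d) := by rw [← e]; group
  refine isConj_iff.mpr ⟨g * c, ?_⟩
  rw [mem_cent'] at hc hd
  have h1 : k * y * k⁻¹ = (g * c) * y * (g * c)⁻¹ := by
    rw [hk]
    calc g * (c * d) * y * (g * (c * d))⁻¹ = g * c * (d * y * d⁻¹) * (g * c)⁻¹ := by group
      _ = _ := by rw [hd]
  have h2 : g * x * g⁻¹ = (g * c) * x * (g * c)⁻¹ := by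
    calc g * x * g⁻¹ = g * (c * x * c⁻¹) * g⁻¹ := by rw [hc]
      _ = _ := by group
  rw [h1, h2]
  group

theorem cs_mul_dvd {x y : G} (h : Nat.Coprime (cs x) (cs y)) : cs (x * y) ∣ cs x * cs y := by
  have hle : centralizer ({x} : Set G) ⊓ centralizer {y} ≤ centralizer {x * y} := by
    intro g hg
    rw [mem_inf, mem_cent, mem_cent] at hg
    obtain ⟨h1, h2⟩ := hg
    rw [mem_cent, ← mul_assoc, h1, mul_assoc, h2, mul_assoc]
  have := index_dvd_of_le hle
  rwa [index_inf_of_coprime _ _ h] at this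

theorem real_mul_of_coprime {x y : G} (h : Nat.Coprime (cs x) (cs y)) (hx : IsConj x x⁻¹)
    (hy : IsConj y y⁻¹) : IsConj (x * y) (x * y)⁻¹ := by
  refine (isConj_mul_of_coprime h hx hy).trans ?_
  rw [mul_inv_rev]
  exact isConj_iff.mpr ⟨y⁻¹, by group⟩

/-- the normal subgroup generated by the quotients of two conjugates of `y` -/
def shift (y : G) : Subgroup G := closure (Set.range fun g : G => g * y * g⁻¹ * y⁻¹)

omit [Finite G] in
theorem conj_mul_inv_mem_shift (y g : G) : g * y * g⁻¹ * y⁻¹ ∈ shift y :=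
  subset_closure ⟨g, rfl⟩

omit [Finite G] in
instance shift_normal (y : G) : (shift y).Normal := by
  refine ⟨fun a ha g => ?_⟩
  induction ha using closure_induction with
  | mem v hv =>
    obtain ⟨k, rfl⟩ := hv
    have h1 := conj_mul_inv_mem_shift y (g * k)
    have h2 := conj_mul_inv_mem_shift y g
    have e : g * (k * y * k⁻¹ * y⁻¹) * g⁻¹
        = (g * k * y * (g * k)⁻¹ * y⁻¹) * (g * y * g⁻¹ * y⁻¹)⁻¹ := by group
    show g * (k * y * k⁻¹ * y⁻¹) * g⁻¹ ∈ shift y
    rw [e]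
    exact mul_mem h1 (inv_mem h2)
  | one => simp
  | mul a b _ _ ha hb =>
    rw [show g * (a * b) * g⁻¹ = g * a * g⁻¹ * (g * b * g⁻¹) by group]
    exact mul_mem ha hb
  | inv a _ ha =>
    rw [show g * a⁻¹ * g⁻¹ = (g * a * g⁻¹)⁻¹ by group]
    exact inv_mem ha

/-- if the product class is not bigger than the class of `x`, the class of `x` is invariant under
right translation by `shift y` -/
theorem translate {x y : G} (hcop : Nat.Coprime (cs x) (cs y)) (hd : cs (x * y) ∣ cs x) :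
    (∀ w ∈ shift y, IsConj x (x * w)) ∧ Nat.card (shift y) ∣ cs x := by
  classical
  set K : Set G := {z | IsConj x z} with hK
  have hM : ∀ y', IsConj y y' →
      (fun k => k * y') '' K = {z : G | IsConj (x * y) z} := by
    intro y' hy'
    refine Set.eq_of_subset_of_ncard_le ?_ ?_ (Set.toFinite _)
    · rintro _ ⟨k, hk, rfl⟩
      exact isConj_mul_of_coprime hcop hk hy'
    · rw [Set.ncard_image_of_injective _ (mul_left_injective y'), ← cs_eq_ncard, hK,
        ← cs_eq_ncard]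
      exact Nat.le_of_dvd (Nat.pos_of_ne_zero (cs_ne_zero x)) hd
  have hinv : ∀ w ∈ shift y, ∀ k, k ∈ K → k * w ∈ K := by
    intro w hw
    induction hw using closure_induction with
    | mem v hv =>
      obtain ⟨g, rfl⟩ := hv
      intro k hk
      have h1 : k * (g * y * g⁻¹) ∈ (fun k => k * y) '' K := by
        rw [hM y (IsConj.refl y), ← hM _ (isConj_conj g y)]
        exact ⟨k, hk, rfl⟩
      obtain ⟨k', hk', e⟩ := h1
      show k * (g * y * g⁻¹ * y⁻¹) ∈ K
      simp only at e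
      rw [← mul_assoc, ← e, mul_inv_cancel_right]
      exact hk'
    | one => intro k hk; rwa [mul_one]
    | mul a b _ _ ha hb => intro k hk; rw [← mul_assoc]; exact hb _ (ha k hk)
    | inv a _ ha =>
      intro k hk
      have himg : (fun k => k * a) '' K = K := by
        refine Set.eq_of_subset_of_ncard_le ?_ ?_ (Set.toFinite _)
        · rintro _ ⟨k, hk, rfl⟩
          exact ha k hk
        · rw [Set.ncard_image_of_injective _ (mul_left_injective a)]
      rw [← himg] at hk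
      obtain ⟨k', hk', rfl⟩ := hk
      rwa [mul_inv_cancel_right]
  refine ⟨fun w hw => hinv w hw x (IsConj.refl x), ?_⟩
  rw [cs_eq_ncard]
  set W := shift y with hW
  have hpre : (QuotientGroup.mk : G → G ⧸ W) ⁻¹' (QuotientGroup.mk '' K) = K := by
    refine Set.Subset.antisymm ?_ (Set.subset_preimage_image _ _)
    rintro z ⟨k, hk, e⟩
    rw [QuotientGroup.eq] at e
    have := hinv _ e k hk
    rwa [mul_inv_cancel_left] at this
  have h := Nat.card_congr (QuotientGroup.preimageMkEquivSubgroupProdSet W (QuotientGroup.mk '' K))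
  rw [hpre, Nat.card_prod] at h
  rw [← Nat.card_coe_set_eq, ← hK, h]
  exact dvd_mul_right _ _

theorem relIndex_dvd_index_of_normal (W C : Subgroup G) [W.Normal] : C.relIndex W ∣ C.index := by
  have e : C.relIndex (W ⊔ C) ∣ C.index := relIndex_dvd_index_of_le le_sup_right
  have key : C.relIndex (W ⊔ C) = C.relIndex W := by
    have a1 := card_mul_index (C.subgroupOf (W ⊔ C))
    have a2 := card_mul_index (W.subgroupOf (W ⊔ C))
    have a3 := card_mul_index (C.subgroupOf W)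
    have a4 := card_mul_index (W.subgroupOf C)
    rw [Nat.card_congr (subgroupOfEquivOfLe (le_sup_right : C ≤ W ⊔ C)).toEquiv] at a1
    rw [Nat.card_congr (subgroupOfEquivOfLe (le_sup_left : W ≤ W ⊔ C)).toEquiv] at a2
    have i1 : Nat.card (C.subgroupOf W) = Nat.card (C ⊓ W : Subgroup G) := by
      rw [← inf_subgroupOf_right, Nat.card_congr (subgroupOfEquivOfLe inf_le_right).toEquiv]
    have i2 : Nat.card (W.subgroupOf C) = Nat.card (C ⊓ W : Subgroup G) := by
      rw [← inf_subgroupOf_right, Nat.card_congr (subgroupOfEquivOfLe inf_le_right).toEquiv,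
        inf_comm]
    rw [i1] at a3; rw [i2] at a4
    change Nat.card C * C.relIndex (W ⊔ C) = _ at a1
    change Nat.card W * W.relIndex (W ⊔ C) = _ at a2
    change _ * C.relIndex W = _ at a3
    change _ * W.relIndex C = _ at a4
    rw [sup_comm, relIndex_sup_right, sup_comm] at a2
    have hpos : 0 < Nat.card (C ⊓ W : Subgroup G) * W.relIndex C := by
      rw [a4]; exact Nat.card_pos
    refine Nat.eq_of_mul_eq_mul_left hpos ?_
    rw [a4, a1, ← a2, ← a3, ← a4]
    ring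
  rwa [key] at e

/-- a normal subgroup whose order is prime to a class size centralizes that class -/
theorem normal_le_cent (W : Subgroup G) [W.Normal] (y : G)
    (h : Nat.Coprime (Nat.card W) (cs y)) : W ≤ centralizer ({y} : Set G) := by
  rw [← relIndex_eq_one]
  exact Nat.dvd_one.mp (h ▸ Nat.dvd_gcd (relIndex_dvd_card _ _) (relIndex_dvd_index_of_normal _ _))

/-- a real element of odd prime order in a quotient is covered by a real element of odd order -/
theorem exists_real_lift (N : Subgroup G) [N.Normal] {r : ℕ} [hr : Fact r.Prime] (hr2 : r ≠ 2)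
    {a : G ⧸ N} (ha : orderOf a = r) (hreal : IsConj a a⁻¹) :
    ∃ (u : G) (i : ℕ), u ≠ 1 ∧ (∃ k, orderOf u = r ^ k) ∧ Odd (orderOf u) ∧ IsConj u u⁻¹ ∧
      (u : G ⧸ N) = a ^ i ∧ (u : G ⧸ N) ≠ 1 := by
  classical
  haveI : Fact (Nat.Prime 2) := ⟨Nat.prime_two⟩
  obtain ⟨gbar, hg⟩ := isConj_iff.mp hreal
  obtain ⟨g, rfl⟩ := QuotientGroup.mk_surjective gbar
  set H : Subgroup G := (zpowers a).comap (QuotientGroup.mk' N) with hH
  obtain ⟨R⟩ := (inferInstance : Nonempty (Sylow r H))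
  -- the image of `R` covers `a`
  set f : H →* zpowers a :=
    { toFun := fun h => ⟨((h : G) : G ⧸ N), h.2⟩
      map_one' := rfl
      map_mul' := fun _ _ => rfl } with hf
  have hfs : Function.Surjective f := by
    rintro ⟨b, hb⟩
    obtain ⟨b, rfl⟩ := QuotientGroup.mk_surjective b
    exact ⟨⟨b, hb⟩, rfl⟩
  have hRtop : ((R : Subgroup H).map f) = ⊤ := by
    have h1 : IsPGroup r (zpowers a) := IsPGroup.of_card (n := 1) (by
      rw [Nat.card_zpowers, ha, pow_one])
    exact (R.mapSurjective hfs).3 (IsPGroup.to_subgroup h1 ⊤) le_top |>.symm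
  -- an inverter normalizing `R`
  have hgH : ∀ x ∈ H, g * x * g⁻¹ ∈ H := by
    intro x hx
    rw [hH, mem_comap] at hx ⊢
    obtain ⟨n, hn⟩ := mem_zpowers_iff.mp hx
    simp only [QuotientGroup.mk'_apply, map_mul, map_inv] at hn ⊢
    rw [← hn, ← conj_zpow, hg]
    exact zpow_mem (inv_mem (mem_zpowers a)) n
  set RG : Subgroup G := (R : Subgroup H).map H.subtype with hRG
  have hRGH : RG ≤ H := map_subtype_le _
  have hle : RG.map (MulAut.conj g).toMonoidHom ≤ H := by
    rintro _ ⟨x, hx, rfl⟩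
    exact hgH x (hRGH hx)
  have hRGp : IsPGroup r RG := R.isPGroup'.map _
  have hcard : Nat.card ((RG.map (MulAut.conj g).toMonoidHom).subgroupOf H)
      = r ^ (Nat.card H).factorization r := by
    rw [Nat.card_congr (subgroupOfEquivOfLe hle).toEquiv,
      card_map_of_injective (MulEquiv.injective _), hRG,
      card_map_of_injective H.subtype_injective, Sylow.card_eq_multiplicity]
  obtain ⟨h, hh⟩ := MulAction.exists_smul_eq H
    (Sylow.ofCard ((RG.map (MulAut.conj g).toMonoidHom).subgroupOf H) hcard) R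
  have hnorm : ∀ x ∈ RG, ((h : G) * g) * x * ((h : G) * g)⁻¹ ∈ RG := by
    rintro x hx
    have hx' : g * x * g⁻¹ ∈ H := hgH x (hRGH hx)
    have : h * ⟨_, hx'⟩ * h⁻¹ ∈ (R : Subgroup H) := by
      rw [← hh, Sylow.coe_subgroup_smul]
      refine smul_mem_pointwise_smul _ (MulAut.conj h) _ ?_
      rw [Sylow.coe_ofCard, mem_subgroupOf]
      exact mem_map_of_mem _ hx
    refine ⟨_, this, ?_⟩
    simp [mul_assoc]
  have hcomm : Commute ((h : G) : G ⧸ N) a := by
    obtain ⟨n, hn⟩ := mem_zpowers_iff.mp (show ((h : G) : G ⧸ N) ∈ zpowers a from h.2)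
    rw [← hn]
    exact Commute.zpow_left rfl n
  set g₁ : G := (h : G) * g with hg₁
  have hg₁a : (g₁ : G ⧸ N) * a * (g₁ : G ⧸ N)⁻¹ = a⁻¹ := by
    rw [hg₁, QuotientGroup.mk_mul, mul_inv_rev]
    calc _ = ((h : G) : G ⧸ N) * ((g : G ⧸ N) * a * (g : G ⧸ N)⁻¹) * ((h : G) : G ⧸ N)⁻¹ := by
          group
      _ = _ := by rw [hg, hcomm.inv_right.eq, mul_inv_cancel_right]
  -- pass to a 2-element
  obtain ⟨j, m, hm, hjm⟩ := Nat.exists_eq_pow_mul_and_not_dvd (orderOf_pos g₁).ne' 2 (by norm_num)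
  obtain ⟨k, hk⟩ : Odd m := Nat.not_even_iff_odd.mp fun he => hm he.two_dvd
  set s : G := g₁ ^ m with hs
  have hsord : orderOf s = 2 ^ j := by
    rw [hs, orderOf_pow, hjm, Nat.gcd_mul_left_left, Nat.mul_div_cancel _ (by omega)]
  set RN : Subgroup G := normalizer (RG : Set G) with hRN
  have hg₁N : g₁ ∈ RN := by
    exact mem_normalizer_fintype hnorm
  have hsN : s ∈ RN := pow_mem hg₁N m
  have hsa : (s : G ⧸ N) * a * (s : G ⧸ N)⁻¹ = a⁻¹ := by
    have h2 : Commute ((g₁ : G ⧸ N) ^ 2) a := by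
      refine mul_inv_eq_iff_eq_mul.mp ?_
      calc (g₁ : G ⧸ N) ^ 2 * a * ((g₁ : G ⧸ N) ^ 2)⁻¹
          = (g₁ : G ⧸ N) * ((g₁ : G ⧸ N) * a * (g₁ : G ⧸ N)⁻¹) * (g₁ : G ⧸ N)⁻¹ := by
            rw [pow_two]; group
        _ = a := by rw [hg₁a]; exact conj_inv_of_inverts hg₁a
    have h3 := h2.pow_left k
    rw [hs, QuotientGroup.mk_pow, hk, pow_succ', pow_mul]
    calc _ = (g₁ : G ⧸ N) * (((g₁ : G ⧸ N) ^ 2) ^ k * a * (((g₁ : G ⧸ N) ^ 2) ^ k)⁻¹)
          * (g₁ : G ⧸ N)⁻¹ := by group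
      _ = _ := by rw [h3.eq, mul_inv_cancel_right, hg₁a]
  -- a fixed point of `s ^ 2` on the lifts of `a` in `R`
  set S : Set G := {x | x ∈ RG ∧ (x : G ⧸ N) = a} with hS
  obtain ⟨x₁, hx₁R, hx₁⟩ : ∃ x₁ ∈ RG, (x₁ : G ⧸ N) = a := by
    have : (⟨a, mem_zpowers a⟩ : zpowers a) ∈ (R : Subgroup H).map f := by rw [hRtop]; trivial
    obtain ⟨x, hx, e⟩ := this
    exact ⟨x, mem_map_of_mem _ hx, congrArg Subtype.val e⟩
  have hScard : Nat.card S = Nat.card (RG ⊓ N : Subgroup G) := by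
    refine Nat.card_congr
      { toFun := fun x => ⟨x₁⁻¹ * x.1, RG.mul_mem (RG.inv_mem hx₁R) x.2.1, ?_⟩
        invFun := fun n => ⟨x₁ * n.1, RG.mul_mem hx₁R n.2.1, ?_⟩
        left_inv := fun x => by ext; simp
        right_inv := fun n => by ext; simp }
    · exact QuotientGroup.eq.mp (hx₁.trans x.2.2.symm)
    · rw [QuotientGroup.mk_mul, hx₁, (QuotientGroup.eq_one_iff (n.1 : G)).mpr n.2.2, mul_one]
  have hSodd : ¬ 2 ∣ Nat.card S := by
    rw [hScard]
    obtain ⟨e, he⟩ := IsPGroup.iff_card.mp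
      (hRGp.to_le (inf_le_left : RG ⊓ N ≤ RG))
    rw [he]
    exact fun h2 => hr2 ((Nat.prime_dvd_prime_iff_eq Nat.prime_two hr.out).mp
      (Nat.prime_two.dvd_of_dvd_pow h2)).symm
  have hs2 : ∀ c ∈ zpowers (s ^ 2), ∀ x ∈ S, c * x * c⁻¹ ∈ S := by
    intro c hc x hx
    refine ⟨(mem_normalizer_iff.mp (zpowers_le.mpr (pow_mem hsN 2) hc) x).mp hx.1, ?_⟩
    obtain ⟨n, rfl⟩ := mem_zpowers_iff.mp hc
    have h2 : Commute ((s : G ⧸ N) ^ 2) a := by
      refine mul_inv_eq_iff_eq_mul.mp ?_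
      calc (s : G ⧸ N) ^ 2 * a * ((s : G ⧸ N) ^ 2)⁻¹
          = (s : G ⧸ N) * ((s : G ⧸ N) * a * (s : G ⧸ N)⁻¹) * (s : G ⧸ N)⁻¹ := by
            rw [pow_two]; group
        _ = a := by rw [hsa]; exact conj_inv_of_inverts hsa
    rw [QuotientGroup.mk_mul, QuotientGroup.mk_mul, QuotientGroup.mk_inv, QuotientGroup.mk_zpow,
      QuotientGroup.mk_pow, hx.2, (h2.zpow_left n).eq, mul_inv_cancel_right]
  letI act : MulAction (zpowers (s ^ 2)) S :=
    { smul := fun c x => ⟨c.1 * x.1 * c.1⁻¹, hs2 c.1 c.2 x.1 x.2⟩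
      one_smul := fun x => Subtype.ext (by show (1 : G) * x.1 * (1 : G)⁻¹ = x.1; group)
      mul_smul := fun c d x => Subtype.ext (by
        show (c.1 * d.1) * x.1 * (c.1 * d.1)⁻¹ = c.1 * (d.1 * x.1 * d.1⁻¹) * c.1⁻¹
        group) }
  have h2s : IsPGroup 2 (zpowers (s ^ 2)) :=
    (IsPGroup.of_card (n := j) (by rw [Nat.card_zpowers, hsord] :
      Nat.card (zpowers s) = 2 ^ j)).to_le (zpowers_le.mpr (pow_mem (mem_zpowers s) 2))
  obtain ⟨x₀, hx₀⟩ := h2s.nonempty_fixed_point_of_prime_not_dvd_card S hSodd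
  have hfix : s ^ 2 * x₀.1 * (s ^ 2)⁻¹ = x₀.1 :=
    congrArg Subtype.val (hx₀ ⟨s ^ 2, mem_zpowers _⟩)
  set u : G := x₀.1 * (s * x₀.1 * s⁻¹)⁻¹ with hu
  have huR : u ∈ RG :=
    mul_mem x₀.2.1 (inv_mem ((mem_normalizer_iff.mp hsN _).mp x₀.2.1))
  have hua : (u : G ⧸ N) = a ^ 2 := by
    rw [hu, QuotientGroup.mk_mul, QuotientGroup.mk_inv, QuotientGroup.mk_mul, QuotientGroup.mk_mul,
      QuotientGroup.mk_inv, x₀.2.2, hsa, inv_inv, pow_two]
  have hne : (u : G ⧸ N) ≠ 1 := by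
    rw [hua]
    intro e
    have := orderOf_dvd_of_pow_eq_one e
    rw [ha] at this
    exact hr2 ((Nat.prime_dvd_prime_iff_eq hr.out Nat.prime_two).mp this)
  obtain ⟨k', hk'⟩ := IsPGroup.iff_orderOf.mp hRGp ⟨u, huR⟩
  rw [Subgroup.orderOf_mk] at hk'
  refine ⟨u, 2, fun e => hne (by rw [e]; rfl), ⟨k', hk'⟩, ?_, ?_, hua, hne⟩
  · rw [hk']
    exact (hr.out.odd_of_ne_two hr2).pow
  · refine isConj_iff.mpr ⟨s, ?_⟩
    have hxx : s * (s * x₀.1 * s⁻¹) * s⁻¹ = x₀.1 := by
      refine Eq.trans ?_ hfix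
      rw [pow_two]; group
    show s * (x₀.1 * (s * x₀.1 * s⁻¹)⁻¹) * s⁻¹ = (x₀.1 * (s * x₀.1 * s⁻¹)⁻¹)⁻¹
    calc s * (x₀.1 * (s * x₀.1 * s⁻¹)⁻¹) * s⁻¹
        = (s * x₀.1 * s⁻¹) * (s * (s * x₀.1 * s⁻¹) * s⁻¹)⁻¹ := by group
      _ = _ := by rw [hxx]; group

/-- a finite group without real elements of odd prime order is 2-closed -/
theorem sylow_two_normal_of_no_real (h : ∀ (r : ℕ) (x : G), r.Prime → r ≠ 2 → orderOf x = r →
    ¬ IsConj x x⁻¹) (P : Sylow 2 G) : (P : Subgroup G).Normal := by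
  refine (FG38.no_real_odd_iff P).mp fun x hx hodd hreal => ?_
  obtain ⟨r, hr, hrd⟩ := Nat.exists_prime_and_dvd
    (fun e => hx (orderOf_eq_one_iff.mp e) : orderOf x ≠ 1)
  refine h r (x ^ (orderOf x / r)) hr ?_ (orderOf_pow_orderOf_div (orderOf_pos x).ne' hrd)
    (real_pow hreal _)
  rintro rfl
  exact (Nat.not_even_iff_odd.mpr hodd) (even_iff_two_dvd.mpr hrd)

end Cfsg.Agent.RealGraph72
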