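import Cfsg.Agent.RealGraph72.Pigeon

/-!
The centralizer of an automorphism acting irreducibly on an elementary abelian 2-group embeds in
a field.
-/

set_option autoImplicit false

namespace Cfsg.Agent.RealGraph72

open Subgroup

/-- `c` leaves no proper nontrivial subgroup invariant -/
def Irred {W : Type*} [Group W] (c : MulAut W) : Prop :=
  ∀ V : Subgroup W, (∀ v ∈ V, c v ∈ V) → V = ⊥ ∨ V = ⊤

theorem fpf_of_commute {W : Type*} [Group W] {c : MulAut W} (hc : Irred c) {b : MulAut W}
    (hb : Commute b c) (hb1 : b ≠ 1) {w : W} (hw : b w = w) : w = 1 := by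
  rcases hc (Fix b) (fun v hv => by
    rw [mem_Fix, ← mul_apply', hb.eq, mul_apply', mem_Fix.mp hv]) with h | h
  · exact mem_bot.mp (h ▸ (mem_Fix.mpr hw))
  · exact absurd (MulEquiv.ext fun v => mem_Fix.mp (h ▸ mem_top v)) hb1

namespace Ring

variable {W : Type*} [CommGroup W]

/-- automorphisms as additive endomorphisms -/
def toEnd : MulAut W →* AddMonoid.End (Additive W) where
  toFun b := MonoidHom.toAdditive b.toMonoidHom
  map_one' := rfl
  map_mul' _ _ := rfl

theorem toEnd_apply (b : MulAut W) (w : W) : toEnd b (Additive.ofMul w) = Additive.ofMul (b w) :=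
  rfl

theorem toEnd_injective : Function.Injective (toEnd (W := W)) := fun a b h =>
  MulEquiv.ext fun w => Additive.ofMul.injective (DFunLike.congr_fun h (Additive.ofMul w))

/-- the ring generated by `c` -/
abbrev adjoin (c : MulAut W) : Subring (AddMonoid.End (Additive W)) :=
  Subring.closure {toEnd c}

theorem commute_of_mem_adjoin {c : MulAut W} {b : AddMonoid.End (Additive W)}
    (hb : Commute b (toEnd c)) {φ : AddMonoid.End (Additive W)} (hφ : φ ∈ adjoin c) :
    Commute b φ := by
  induction hφ using Subring.closure_induction with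
  | mem x hx => rw [Set.mem_singleton_iff.mp hx]; exact hb
  | zero => exact Commute.zero_right b
  | one => exact Commute.one_right b
  | add x y _ _ hx hy => exact hx.add_right hy
  | neg x _ hx => exact hx.neg_right
  | mul x y _ _ hx hy => exact hx.mul_right hy

theorem commute_mem_mem {c : MulAut W} {φ ψ : AddMonoid.End (Additive W)} (hφ : φ ∈ adjoin c)
    (hψ : ψ ∈ adjoin c) : Commute φ ψ :=
  commute_of_mem_adjoin (commute_of_mem_adjoin (Commute.refl (toEnd c)) hφ).symm hψ

/-- the zero set of an endomorphism -/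
def kerSub (φ : AddMonoid.End (Additive W)) : Subgroup W where
  carrier := {w | φ (Additive.ofMul w) = 0}
  one_mem' := map_zero φ
  mul_mem' {a b} ha hb := by
    simp only [Set.mem_setOf_eq] at ha hb ⊢
    rw [ofMul_mul, map_add, ha, hb, add_zero]
  inv_mem' {a} ha := by
    simp only [Set.mem_setOf_eq] at ha ⊢
    rw [ofMul_inv, map_neg, ha, neg_zero]

theorem eq_zero_of_vanish {c : MulAut W} (hc : Irred c) {φ : AddMonoid.End (Additive W)}
    (hφ : Commute φ (toEnd c)) {w : W} (hw : w ≠ 1) (h : φ (Additive.ofMul w) = 0) : φ = 0 := by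
  rcases hc (kerSub φ) (fun v (hv : φ (Additive.ofMul v) = 0) => by
    show φ (toEnd c (Additive.ofMul v)) = 0
    show (φ * toEnd c) (Additive.ofMul v) = 0
    rw [hφ.eq]
    show toEnd c (φ (Additive.ofMul v)) = 0
    rw [hv, map_zero]) with e | e
  · exact absurd (mem_bot.mp (e ▸ (show w ∈ kerSub φ from h))) hw
  · exact AddMonoidHom.ext fun v => (e ▸ mem_top (Additive.toMul v) :
      Additive.toMul v ∈ kerSub φ)

/-- the orbit of `w` under the ring generated by `c` -/
def orbSub (c : MulAut W) (w : W) : Subgroup W where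
  carrier := {v | ∃ φ ∈ adjoin c, φ (Additive.ofMul w) = Additive.ofMul v}
  one_mem' := ⟨0, zero_mem _, rfl⟩
  mul_mem' := by
    rintro a b ⟨φ, hφ, ea⟩ ⟨ψ, hψ, eb⟩
    exact ⟨φ + ψ, add_mem hφ hψ, by rw [ofMul_mul, ← ea, ← eb]; rfl⟩
  inv_mem' := by
    rintro a ⟨φ, hφ, ea⟩
    exact ⟨-φ, neg_mem hφ, by rw [ofMul_inv, ← ea]; rfl⟩

theorem toEnd_mem_adjoin {c : MulAut W} (hc : Irred c) [Nontrivial W] {b : MulAut W}
    (hb : Commute b c) : toEnd b ∈ adjoin c := by
  obtain ⟨w, hw⟩ := exists_ne (1 : W)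
  obtain h | h := hc (orbSub c w) (by
    rintro v ⟨φ, hφ, e⟩
    refine ⟨toEnd c * φ, mul_mem (Subring.subset_closure rfl) hφ, ?_⟩
    show toEnd c (φ (Additive.ofMul w)) = _
    rw [e, toEnd_apply])
  · exact absurd (mem_bot.mp (h ▸ (⟨1, one_mem _, rfl⟩ : w ∈ orbSub c w))) hw
  · obtain ⟨φ, hφ, e⟩ : b w ∈ orbSub c w := h ▸ mem_top _
    have := eq_zero_of_vanish hc (φ := toEnd b - φ)
      ((hb.map toEnd).sub_left (commute_of_mem_adjoin (Commute.refl (toEnd c)) hφ).symm) hw
      (by show toEnd b (Additive.ofMul w) - φ (Additive.ofMul w) = 0; rw [toEnd_apply, e, sub_self])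
    rw [sub_eq_zero] at this
    rwa [this]

theorem two_eq_zero (hW : ∀ w : W, w * w = 1) (φ : AddMonoid.End (Additive W)) : φ + φ = 0 :=
  AddMonoidHom.ext fun v => hW (Additive.toMul (φ v))

theorem main (hW : ∀ w : W, w * w = 1) [Finite W] [Nontrivial W] {c : MulAut W} (hc : Irred c) :
    IsCyclic (centralizer ({c} : Set (MulAut W))) ∧
      ∀ (f : MulAut W) (n : ℕ), f * f = 1 → f * c * f⁻¹ = c ^ (2 ^ n) →
        ∀ b : MulAut W, Commute b c → f * b * f⁻¹ = b ^ (2 ^ n) := by
  letI : CommRing (adjoin c) := Subring.closureCommRingOfComm (by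
    rintro x rfl y rfl; rfl)
  haveI : NoZeroDivisors (adjoin c) := ⟨fun {x y} hxy => by
    by_contra! hne
    have hx : Commute (x : AddMonoid.End (Additive W)) (toEnd c) :=
      (commute_of_mem_adjoin (Commute.refl _) x.2).symm
    obtain ⟨v, hv⟩ : ∃ v, (y : AddMonoid.End (Additive W)) v ≠ 0 := by
      by_contra! h
      exact hne.2 (Subtype.ext (AddMonoidHom.ext h))
    refine hne.1 (Subtype.ext (eq_zero_of_vanish hc hx (w := Additive.toMul ((y : AddMonoid.End _) v))
      (fun e => hv e) ?_))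
    exact DFunLike.congr_fun (congrArg Subtype.val hxy) v⟩
  haveI : Nontrivial (adjoin c) := ⟨⟨1, 0, fun e => by
    obtain ⟨w, hw⟩ := exists_ne (1 : W)
    exact hw (DFunLike.congr_fun (congrArg Subtype.val e) (Additive.ofMul w))⟩⟩
  haveI : IsDomain (adjoin c) := NoZeroDivisors.to_isDomain _
  haveI : CharP (adjoin c) 2 :=
    CharTwo.of_one_ne_zero_of_two_eq_zero one_ne_zero (by
      rw [← one_add_one_eq_two]
      exact Subtype.ext (two_eq_zero hW 1))
  refine ⟨?_, ?_⟩
  · let F : centralizer ({c} : Set (MulAut W)) →* adjoin c :=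
      { toFun := fun b => ⟨toEnd b.1, toEnd_mem_adjoin hc (mem_centralizer_singleton_iff.mp b.2)⟩
        map_one' := Subtype.ext (map_one toEnd)
        map_mul' := fun a b => Subtype.ext (map_mul toEnd a.1 b.1) }
    exact isCyclic_of_injective_ringHom F fun a b h =>
      Subtype.ext (toEnd_injective (congrArg Subtype.val h))
  · intro f n hf hfc b hb
    apply toEnd_injective
    have hff : toEnd f * toEnd f = 1 := by rw [← map_mul, hf, map_one]
    have hinv : toEnd f⁻¹ = toEnd f := by rw [inv_eq_of_mul_eq_one_right hf]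
    rw [map_mul, map_mul, map_pow, hinv]
    suffices h : ∀ φ, φ ∈ adjoin c → toEnd f * φ * toEnd f = φ ^ (2 ^ n) from
      h _ (toEnd_mem_adjoin hc hb)
    intro φ hφ
    induction hφ using Subring.closure_induction with
    | mem x hx =>
      rw [Set.mem_singleton_iff.mp hx, ← map_pow, ← hfc, map_mul, map_mul, hinv]
    | zero => rw [mul_zero, zero_mul, zero_pow (by positivity)]
    | one => rw [mul_one, hff, one_pow]
    | add x y hx hy ihx ihy =>
      have e : ((⟨x, hx⟩ + ⟨y, hy⟩ : adjoin c)) ^ (2 ^ n)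
          = (⟨x, hx⟩ : adjoin c) ^ (2 ^ n) + (⟨y, hy⟩ : adjoin c) ^ (2 ^ n) :=
        add_pow_char_pow _ _ _ _
      rw [mul_add, add_mul, ihx, ihy]
      exact (congrArg Subtype.val e).symm
    | neg x hx ihx =>
      have e : -x = x := neg_eq_of_add_eq_zero_right (two_eq_zero hW x)
      rw [e, ihx]
    | mul x y hx hy ihx ihy =>
      rw [(commute_mem_mem hx hy).mul_pow, ← ihx, ← ihy]
      calc toEnd f * (x * y) * toEnd f = toEnd f * x * (1 * (y * toEnd f)) := by
            simp only [one_mul, mul_assoc]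
        _ = _ := by rw [← hff]; simp only [mul_assoc]

end Ring

variable {W : Type*} [Group W] [Finite W] [Nontrivial W]

theorem isCyclic_centralizer (hW : ∀ w : W, w * w = 1) {c : MulAut W} (hc : Irred c) :
    IsCyclic (centralizer ({c} : Set (MulAut W))) :=
  letI : CommGroup W := { (inferInstance : Group W) with mul_comm := comm_of_sq hW }
  (Ring.main hW hc).1

theorem commute_of_commute (hW : ∀ w : W, w * w = 1) {c : MulAut W} (hc : Irred c) {a b : MulAut W}
    (ha : Commute a c) (hb : Commute b c) : Commute a b := by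
  haveI := isCyclic_centralizer hW hc
  letI := IsCyclic.commGroup (α := centralizer ({c} : Set (MulAut W)))
  exact congrArg Subtype.val (mul_comm
    (⟨a, mem_centralizer_singleton_iff.mpr ha⟩ : centralizer ({c} : Set (MulAut W)))
    ⟨b, mem_centralizer_singleton_iff.mpr hb⟩)

theorem frobenius (hW : ∀ w : W, w * w = 1) {c : MulAut W} (hc : Irred c) {f : MulAut W} {n : ℕ}
    (hf : f * f = 1) (hfc : f * c * f⁻¹ = c ^ (2 ^ n)) {b : MulAut W} (hb : Commute b c) :
    f * b * f⁻¹ = b ^ (2 ^ n) :=
  letI : CommGroup W := { (inferInstance : Group W) with mul_comm := comm_of_sq hW }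
  (Ring.main hW hc).2 f n hf hfc b hb

end Cfsg.Agent.RealGraph72
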