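import Mathlib
import Cfsg.Agent.S0215
import Cfsg.Agent.Lib.Involution.Dihedral

/-!
A group of automorphisms of an elementary abelian 2-group in which commuting involutions have the same
fixed points, and in which an odd element inverted by an involution never stabilizes such a fixed
space: commuting involutions are equal.
-/

set_option autoImplicit false

namespace Cfsg.Agent.RealGraph72

open Subgroup

variable {W : Type*} [Group W]

/-- fixed points of an automorphism -/
def Fix (g : MulAut W) : Subgroup W where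
  carrier := {w | g w = w}
  one_mem' := map_one g
  mul_mem' {a b} ha hb := by
    simp only [Set.mem_setOf_eq] at ha hb ⊢
    rw [map_mul, ha, hb]
  inv_mem' {a} ha := by
    simp only [Set.mem_setOf_eq] at ha ⊢
    rw [map_inv, ha]

theorem mem_Fix {g : MulAut W} {w : W} : w ∈ Fix g ↔ g w = w := Iff.rfl

theorem mul_apply' (f g : MulAut W) (w : W) : (f * g) w = f (g w) := rfl

theorem inv_apply' (g : MulAut W) (w : W) : g (g⁻¹ w) = w := MulEquiv.apply_symm_apply g w

/-- image of a subgroup under an automorphism -/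
def img (g : MulAut W) (V : Subgroup W) : Subgroup W := V.map g.toMonoidHom

theorem mem_img {g : MulAut W} {V : Subgroup W} {w : W} : w ∈ img g V ↔ ∃ v ∈ V, g v = w :=
  Iff.rfl

theorem img_img (f g : MulAut W) (V : Subgroup W) : img f (img g V) = img (f * g) V := by
  ext w
  simp only [mem_img]
  constructor
  · rintro ⟨v, ⟨u, hu, rfl⟩, rfl⟩
    exact ⟨u, hu, rfl⟩
  · rintro ⟨u, hu, rfl⟩
    exact ⟨_, ⟨u, hu, rfl⟩, rfl⟩

theorem img_one (V : Subgroup W) : img 1 V = V := by
  ext w
  simp [mem_img]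

theorem img_Fix (f g : MulAut W) : img f (Fix g) = Fix (f * g * f⁻¹) := by
  ext w
  simp only [mem_img, mem_Fix, mul_apply']
  constructor
  · rintro ⟨v, hv, rfl⟩
    rw [show f⁻¹ (f v) = v from MulEquiv.symm_apply_apply f v, hv]
  · intro h
    refine ⟨f⁻¹ w, ?_, inv_apply' f w⟩
    apply f.injective
    rw [h, inv_apply']

theorem comm_of_sq (hW : ∀ w : W, w * w = 1) (x y : W) : x * y = y * x := by
  have e : ∀ w : W, w⁻¹ = w := fun w => inv_eq_of_mul_eq_one_right (hW w)
  calc x * y = (x * y)⁻¹ := (e _).symm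
    _ = y * x := by rw [mul_inv_rev, e, e]

theorem apply_apply_of_invol {f : MulAut W} (hf : orderOf f = 2) (w : W) : f (f w) = w := by
  rw [← mul_apply', Involution.mul_self_of_orderOf hf]
  rfl

/-- no element of odd prime order of `H` inverted by an involution of `H` stabilizes a subgroup of
order `2 ^ a` -/
def NoHalf (H : Subgroup (MulAut W)) (a : ℕ) : Prop :=
  ∀ (r : ℕ) (y f : MulAut W), r.Prime → r ≠ 2 → y ∈ H → orderOf y = r → f ∈ H → orderOf f = 2 →
    f * y * f⁻¹ = y⁻¹ → ∀ V : Subgroup W, Nat.card V = 2 ^ a → (∀ v ∈ V, y v ∈ V) → False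

theorem noHalf_mul {H : Subgroup (MulAut W)} [Finite W] {a : ℕ} (hno : NoHalf H a) {f g : MulAut W}
    (hf : f ∈ H) (hg : g ∈ H) (hf2 : orderOf f = 2) (hg2 : orderOf g = 2)
    (hodd : Odd (orderOf (f * g))) (hne : f * g ≠ 1) (V : Subgroup W) (hV : Nat.card V = 2 ^ a)
    (hst : ∀ v ∈ V, (f * g) v ∈ V) : False := by
  obtain ⟨r, hr, hrd⟩ := Nat.exists_prime_and_dvd
    (fun e => hne (orderOf_eq_one_iff.mp e) : orderOf (f * g) ≠ 1)
  have hr2 : r ≠ 2 := by
    rintro rfl
    exact (Nat.not_even_iff_odd.mpr hodd) (even_iff_two_dvd.mpr hrd)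
  set m := orderOf (f * g) / r
  refine hno r ((f * g) ^ m) f hr hr2 (pow_mem (mul_mem hf hg) _)
    (orderOf_pow_orderOf_div (orderOf_pos _).ne' hrd) hf hf2 ?_ V hV ?_
  · rw [← conj_pow, Involution.inverts_mul (Involution.mul_self_of_orderOf hf2)
      (Involution.mul_self_of_orderOf hg2), inv_pow]
  · clear_value m
    induction m with
    | zero => intro v hv; rw [pow_zero]; exact hv
    | succ n ih =>
      intro v hv
      rw [pow_succ, mul_apply']
      exact ih _ (hst v hv)

section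

variable [Finite W] (hW : ∀ w : W, w * w = 1) (H : Subgroup (MulAut W)) (a : ℕ)
  (hhalf : ∀ f ∈ H, orderOf f = 2 → Nat.card (Fix f) = 2 ^ a)
  (hsame : ∀ f ∈ H, ∀ g ∈ H, orderOf f = 2 → orderOf g = 2 → Commute f g → Fix f = Fix g)

include hW in
omit [Finite W] in
theorem mul_apply_mem_Fix {f : MulAut W} (hf : orderOf f = 2) (v : W) : v * f v ∈ Fix f := by
  rw [mem_Fix, map_mul, apply_apply_of_invol hf]
  exact comm_of_sq hW (f v) v

include hW in
omit [Finite W] in
theorem commute_of_Fix_eq {f g : MulAut W} (hf : orderOf f = 2) (hg : orderOf g = 2)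
    (h : Fix f = Fix g) : Commute f g := by
  have hc : ∀ x y : W, x * y = y * x := comm_of_sq hW
  refine MulEquiv.ext fun v => ?_
  show f (g v) = g (f v)
  have key : ∀ {p q : MulAut W}, orderOf q = 2 → Fix p = Fix q →
      p (q v) = p v * (v * q v) := by
    intro p q hq hpq
    have h2 : p (v * q v) = v * q v := by
      rw [← mem_Fix, hpq]; exact mul_apply_mem_Fix hW hq v
    have h3 : q v = v * (v * q v) := by rw [← mul_assoc, hW, one_mul]
    calc p (q v) = p (v * (v * q v)) := by rw [← h3]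
      _ = p v * (v * q v) := by rw [map_mul, h2]
  rw [key hg h, key hf h.symm, hc v (g v), hc v (f v), ← mul_assoc, ← mul_assoc, hc (f v) (g v)]

include hW hhalf hsame in
theorem Fix_eq_of_stabilizes {f l : MulAut W} (hf : f ∈ H) (hf2 : orderOf f = 2) (hl : l ∈ H)
    (hl2 : orderOf l = 2) (hst : img f (Fix l) = Fix l) : Fix f = Fix l := by
  rw [img_Fix] at hst
  set l' := f * l * f⁻¹ with hl'
  have hl'H : l' ∈ H := mul_mem (mul_mem hf hl) (inv_mem hf)
  have hl'2 : orderOf l' = 2 := by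
    rw [hl', ← MulAut.conj_apply, MulEquiv.orderOf_eq, hl2]
  have hcom : Commute l l' := commute_of_Fix_eq hW hl2 hl'2 hst.symm
  by_cases he : l' = l
  · refine hsame f hf l hl hf2 hl2 ?_
    rw [hl'] at he
    exact mul_inv_eq_iff_eq_mul.mp he
  · have hll := Involution.mul_self_of_orderOf hl2
    have hll' := Involution.mul_self_of_orderOf hl'2
    have he2 : orderOf (l * l') = 2 := by
      refine orderOf_eq_prime ?_ ?_
      · rw [hcom.mul_pow, pow_two, pow_two, hll, hll', one_mul]
      · intro e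
        apply he
        calc l' = (l * l) * l' := by rw [hll, one_mul]
          _ = l := by rw [mul_assoc, e, mul_one]
    have hFix : Fix (l * l') = Fix l := by
      refine (eq_of_le_of_card_ge ?_ ?_).symm
      · intro w hw
        rw [mem_Fix, mul_apply', mem_Fix.mp (show w ∈ Fix l' from hst ▸ hw), mem_Fix.mp hw]
      · rw [hhalf _ (mul_mem hl hl'H) he2, hhalf l hl hl2]
    refine (hsame f hf (l * l') (mul_mem hl hl'H) hf2 he2 ?_).trans hFix
    have hff := Involution.mul_self_of_orderOf hf2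
    refine mul_inv_eq_iff_eq_mul.mp ?_
    have hl'f : f * l' * f⁻¹ = l := by
      rw [hl', Involution.inv_of_orderOf hf2]
      calc f * (f * l * f) * f = (f * f) * l * (f * f) := by group
        _ = l := by rw [hff, one_mul, mul_one]
    calc f * (l * l') * f⁻¹ = (f * l * f⁻¹) * (f * l' * f⁻¹) := by group
      _ = l * l' := by rw [← hl', hl'f]; exact hcom.eq.symm

include hW hhalf hsame in
/-- commuting involutions are equal -/
theorem eq_of_commute (hno : NoHalf H a)
    (htwo : ∃ f ∈ H, ∃ g ∈ H, orderOf f = 2 ∧ orderOf g = 2 ∧ Fix f ≠ Fix g) :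
    ∀ f ∈ H, ∀ g ∈ H, orderOf f = 2 → orderOf g = 2 → Commute f g → f = g := by
  classical
  suffices key : ∀ f ∈ H, ∀ g ∈ H, orderOf f = 2 → orderOf g = 2 → Fix f = Fix g → f = g from
    fun f hf g hg hf2 hg2 hc => key f hf g hg hf2 hg2 (hsame f hf g hg hf2 hg2 hc)
  intro f hf g hg hf2 hg2 hfg
  obtain ⟨l, hl, hl2, hlf⟩ : ∃ l ∈ H, orderOf l = 2 ∧ Fix l ≠ Fix f := by
    obtain ⟨p, hp, q, hq, hp2, hq2, hpq⟩ := htwo
    by_cases hpf : Fix p = Fix f
    · exact ⟨q, hq, hq2, fun e => hpq (hpf.trans e.symm)⟩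
    · exact ⟨p, hp, hp2, hpf⟩
  let S := {x : MulAut W // x ∈ H ∧ orderOf x = 2 ∧ Fix x ≠ Fix l}
  let Lines := {V : Subgroup W // ∃ x ∈ H, orderOf x = 2 ∧ Fix x = V ∧ V ≠ Fix l}
  let φ : S → Lines := fun x => ⟨Fix x.1, x.1, x.2.1, x.2.2.1, rfl, x.2.2.2⟩
  have hφ : Function.Surjective φ := by
    rintro ⟨V, x, hx, hx2, rfl, hne⟩
    exact ⟨⟨x, hx, hx2, hne⟩, rfl⟩
  let ψ : S → Lines := fun x => ⟨img x.1 (Fix l), x.1 * l * x.1⁻¹,
    mul_mem (mul_mem x.2.1 hl) (inv_mem x.2.1),
    by rw [← MulAut.conj_apply, MulEquiv.orderOf_eq, hl2], (img_Fix _ _).symm,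
    fun e => x.2.2.2 (Fix_eq_of_stabilizes hW H a hhalf hsame x.2.1 x.2.2.1 hl hl2 e)⟩
  have hψ : Function.Injective ψ := by
    rintro ⟨x, hx, hx2, hxl⟩ ⟨z, hz, hz2, hzl⟩ he
    have he' : img x (Fix l) = img z (Fix l) := congrArg Subtype.val he
    have hst : img (x * z) (Fix l) = Fix l := by
      rw [← img_img, ← he', img_img, Involution.mul_self_of_orderOf hx2, img_one]
    by_contra hne
    have hxz : x * z ≠ 1 := fun e => hne (Subtype.ext
      ((mul_eq_one_iff_eq_inv.mp e).trans (Involution.inv_of_orderOf hz2)))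
    by_cases hodd : Odd (orderOf (x * z))
    · refine noHalf_mul hno hx hz hx2 hz2 hodd hxz (Fix l) (hhalf l hl hl2) fun v hv => ?_
      rw [← hst]
      exact ⟨v, hv, rfl⟩
    · have heven := Nat.not_odd_iff_even.mp hodd
      have hxx := Involution.mul_self_of_orderOf hx2
      have hzz := Involution.mul_self_of_orderOf hz2
      set w := (x * z) ^ (orderOf (x * z) / 2) with hw
      have hw2 : orderOf w = 2 := Involution.orderOf_pow_half heven (orderOf_pos _).ne'
      have hwH : w ∈ H := pow_mem (mul_mem hx hz) _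
      have h1 := hsame w hwH x hx hw2 hx2 (Involution.commute_pow_half_left hxx hzz heven)
      have h2 := hsame w hwH z hz hw2 hz2 (Involution.commute_pow_half_right hxx hzz heven)
      have hc : Commute x z := commute_of_Fix_eq hW hx2 hz2 (h1.symm.trans h2)
      have hxz2 : orderOf (x * z) = 2 :=
        orderOf_eq_prime (by rw [hc.mul_pow, pow_two, pow_two, hxx, hzz, one_mul]) hxz
      have h3 : Fix (x * z) = Fix l :=
        Fix_eq_of_stabilizes hW H a hhalf hsame (mul_mem hx hz) hxz2 hl hl2 hst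
      refine hxl ((hsame x hx (x * z) (mul_mem hx hz) hx2 hxz2 ?_).trans h3)
      exact (Commute.refl x).mul_right hc
  have hbij : Function.Bijective φ := (Nat.bijective_iff_surjective_and_card φ).mpr ⟨hφ,
    le_antisymm (Nat.card_le_card_of_injective ψ hψ) (Nat.card_le_card_of_surjective φ hφ)⟩
  have := hbij.1 (a₁ := (⟨f, hf, hf2, hlf.symm⟩ : S))
    (a₂ := ⟨g, hg, hg2, fun e => hlf (hfg.trans e).symm⟩) (Subtype.ext hfg)
  exact congrArg Subtype.val this

end

/-- Glauberman's theorem for a group in which commuting involutions are equal. -/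
theorem exists_odd_normal {G : Type*} [Group G] [Finite G] {j : G} (hj : orderOf j = 2)
    (h : ∀ f g : G, orderOf f = 2 → orderOf g = 2 → Commute f g → f = g) :
    ∃ N : Subgroup G, N.Normal ∧ Odd (Nat.card N) ∧ ∀ g : G, j * g * j⁻¹ * g⁻¹ ∈ N := by
  haveI : Fact (Nat.Prime 2) := ⟨Nat.prime_two⟩
  have hp : IsPGroup 2 (zpowers j) :=
    IsPGroup.of_card (n := 1) (by rw [Nat.card_zpowers, hj, pow_one])
  obtain ⟨P, hP⟩ := hp.exists_le_sylow
  have hjP : j ∈ (P : Subgroup G) := hP (mem_zpowers j)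
  refine S0215.result P j hj hjP fun g hg => ?_
  haveI : Nontrivial (P : Subgroup G) := ⟨⟨⟨j, hjP⟩, 1, fun e => by
    rw [Subtype.ext_iff] at e; simp only at e; rw [e, OneMemClass.coe_one, orderOf_one] at hj
    exact absurd hj (by norm_num)⟩⟩
  haveI := P.isPGroup'.center_nontrivial
  obtain ⟨⟨z, hz⟩, hz1⟩ := exists_ne (1 : center (P : Subgroup G))
  have hz2 : ∃ c : G, orderOf c = 2 ∧ ∀ x ∈ (P : Subgroup G), Commute c x := by
    obtain ⟨k, hk⟩ := IsPGroup.iff_orderOf.mp P.isPGroup' z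
    have hk0 : k ≠ 0 := by
      rintro rfl
      exact hz1 (Subtype.ext (orderOf_eq_one_iff.mp (by rw [hk, pow_zero])))
    refine ⟨((z ^ (2 ^ (k - 1)) : (P : Subgroup G)) : G), ?_, fun x hx => ?_⟩
    · rw [Subgroup.orderOf_coe, orderOf_pow, hk, Nat.gcd_eq_right (Nat.pow_dvd_pow 2 (by omega)),
        Nat.pow_div (by omega) (by norm_num), show k - (k - 1) = 1 by omega, pow_one]
    · have := mem_center_iff.mp (pow_mem hz (2 ^ (k - 1))) ⟨x, hx⟩
      exact (congrArg Subtype.val this).symm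
  obtain ⟨c, hc2, hc⟩ := hz2
  have h1 := h c j hc2 hj (hc j hjP)
  have h2 := h c (g * j * g⁻¹) hc2 (by rw [← MulAut.conj_apply, MulEquiv.orderOf_eq, hj]) (hc _ hg)
  exact h2.symm.trans h1

end Cfsg.Agent.RealGraph72
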