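import Cfsg.Agent.RealGraph72.Basic
import Cfsg.Agent.RealGraph72.Pigeon
import Cfsg.Agent.S0205
import Cfsg.Agent.Lib.Involution.BaerSuzuki

/-!
Groups of automorphisms of an elementary abelian 2-group in which real elements of odd prime
order act fixed point freely and orbits have odd size coprime to their classes: basic facts.
-/

set_option autoImplicit false

namespace Cfsg.Agent.RealGraph72

open Subgroup

section Gen

variable {G : Type*} [Group G] [Finite G]

theorem conj_mem_normal {H N : Subgroup G} (hN : ∀ h ∈ H, ∀ n ∈ N, h * n * h⁻¹ ∈ N) {h : G}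
    (hh : h ∈ H) {n : G} (hn : n ∈ N) : h⁻¹ * n * h ∈ N := by
  simpa using hN h⁻¹ (inv_mem hh) n hn

/-- a `p`-subgroup of `H` normalized by `H` lies in every subgroup of index prime to `p` -/
theorem normal_le_of_not_dvd {p : ℕ} [Fact p.Prime] (H K N : Subgroup G) (hNH : N ≤ H)
    (hNp : IsPGroup p N) (hN : ∀ h ∈ H, ∀ n ∈ N, h * n * h⁻¹ ∈ N) (hp : ¬ p ∣ K.relIndex H) :
    N ≤ K := by
  have h1 : IsPGroup p (N.subgroupOf H) := hNp.of_equiv (subgroupOfEquivOfLe hNH).symm
  obtain ⟨q, hq⟩ := h1.nonempty_fixed_point_of_prime_not_dvd_card (H ⧸ K.subgroupOf H)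
    (by rwa [← index_eq_card])
  obtain ⟨g, rfl⟩ := QuotientGroup.mk_surjective q
  intro n hn
  have hm : (g : G) * n * (g : G)⁻¹ ∈ N := hN _ g.2 n hn
  have h := hq ⟨⟨_, hNH hm⟩, hm⟩
  change (((⟨_, hNH hm⟩ : H) * g : H) : H ⧸ K.subgroupOf H) = (g : H ⧸ K.subgroupOf H) at h
  rw [eq_comm, QuotientGroup.eq, mem_subgroupOf] at h
  simpa [mul_assoc] using h

theorem isPGroup_two_closure_pair {x y : G} (hx : x * x = 1) (hy : y * y = 1) {k : ℕ}
    (hk : orderOf (x * y) = 2 ^ k) : IsPGroup 2 (closure ({x, y} : Set G)) := by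
  rintro ⟨d, hd⟩
  obtain ⟨i, rfl | rfl⟩ := (Involution.mem_closure_pair_involutions hx hy).mp hd
  · refine ⟨k, Subtype.ext ?_⟩
    rw [SubmonoidClass.coe_pow, OneMemClass.coe_one, ← zpow_natCast, ← zpow_mul, mul_comm, zpow_mul,
      zpow_natCast, ← hk, pow_orderOf_eq_one, one_zpow]
  · refine ⟨1, Subtype.ext ?_⟩
    rw [SubmonoidClass.coe_pow, OneMemClass.coe_one, pow_one, pow_two,
      Involution.left_mul_zpow_sq hx hy]

/-- Baer and Suzuki: an involution is in a normal 2-subgroup or inverts an element of odd prime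
order -/
theorem invol_cases (H : Subgroup G) {f : G} (hfH : f ∈ H) (hf : orderOf f = 2) :
    (∃ N ≤ H, IsPGroup 2 N ∧ f ∈ N ∧ ∀ h ∈ H, ∀ n ∈ N, h * n * h⁻¹ ∈ N) ∨
      ∃ (r : ℕ) (y : G), r.Prime ∧ r ≠ 2 ∧ y ∈ H ∧ orderOf y = r ∧ f * y * f⁻¹ = y⁻¹ := by
  haveI : Fact (Nat.Prime 2) := ⟨Nat.prime_two⟩
  rw [or_iff_not_imp_right]
  intro hno
  have hf' : orderOf (⟨f, hfH⟩ : H) = 2 := by rw [Subgroup.orderOf_mk, hf]
  obtain ⟨N, hN, hNp, hfN⟩ := Involution.baerSuzuki (p := 2) (⟨f, hfH⟩ : H) (by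
    intro g
    set x : H := ⟨f, hfH⟩
    have hy : orderOf (g * x * g⁻¹) = 2 := by rw [← MulAut.conj_apply, MulEquiv.orderOf_eq, hf']
    obtain ⟨k, m, hm, hkm⟩ :=
      Nat.exists_eq_pow_mul_and_not_dvd (orderOf_pos (x * (g * x * g⁻¹))).ne' 2 (by norm_num)
    by_cases hm1 : m = 1
    · exact isPGroup_two_closure_pair (Involution.mul_self_of_orderOf hf')
        (Involution.mul_self_of_orderOf hy) (by rw [hkm, hm1, mul_one])
    · exfalso
      obtain ⟨r, hr, hrm⟩ := Nat.exists_prime_and_dvd hm1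
      set d := x * (g * x * g⁻¹) with hd
      have hrd : r ∣ orderOf d := hkm ▸ dvd_mul_of_dvd_right hrm _
      have e : x * d ^ (orderOf d / r) * x⁻¹ = (d ^ (orderOf d / r))⁻¹ := by
        rw [← conj_pow, hd, Involution.inverts_mul (Involution.mul_self_of_orderOf hf')
          (Involution.mul_self_of_orderOf hy), inv_pow]
      refine hno ⟨r, ((d ^ (orderOf d / r) : H) : G), hr, fun e => hm (e ▸ hrm), SetLike.coe_mem _,
        ?_, congrArg Subtype.val e⟩
      rw [Subgroup.orderOf_coe, orderOf_pow_orderOf_div (orderOf_pos _).ne' hrd])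
  refine ⟨N.map H.subtype, map_subtype_le _, hNp.map _, ⟨_, hfN, rfl⟩, ?_⟩
  rintro h hh _ ⟨n, hn, rfl⟩
  exact ⟨⟨h, hh⟩ * n * ⟨h, hh⟩⁻¹, hN.conj_mem n hn _, rfl⟩

theorem isSolvable_of_sylow_two_normal (h : ∀ P : Sylow 2 G, (P : Subgroup G).Normal) :
    Group.IsSolvable G := by
  haveI : Fact (Nat.Prime 2) := ⟨Nat.prime_two⟩
  obtain ⟨P⟩ := (inferInstance : Nonempty (Sylow 2 G))
  haveI := h P
  haveI : Group.IsNilpotent (P : Subgroup G) := P.isPGroup'.isNilpotent
  haveI : Group.IsSolvable (G ⧸ (P : Subgroup G)) := by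
    refine S0205.result ?_
    rw [← index_eq_card]
    exact Nat.not_even_iff_odd.mp fun he => P.not_dvd_index he.two_dvd
  exact Group.isSolvable_of_ker_le_range (P : Subgroup G).subtype
    (QuotientGroup.mk' (P : Subgroup G)) (by rw [QuotientGroup.ker_mk', range_subtype])

omit [Finite G] in
theorem eq_or_eq_inv_of_invol {f c : G} (hf : f * f = 1) (hc : (orderOf c).Prime)
    (h : f * c * f⁻¹ ∈ zpowers c) : f * c * f⁻¹ = c ∨ f * c * f⁻¹ = c⁻¹ := by
  obtain ⟨i, hi⟩ := h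
  simp only at hi
  have h2 : c ^ (i * i) = c := by
    rw [zpow_mul, hi, conj_zpow, hi, inv_eq_of_mul_eq_one_right hf]
    calc f * (f * c * f) * f = (f * f) * c * (f * f) := by group
      _ = c := by rw [hf, one_mul, mul_one]
  have h3 : (orderOf c : ℤ) ∣ (i - 1) * (i + 1) := by
    rw [orderOf_dvd_iff_zpow_eq_one, show (i - 1) * (i + 1) = i * i + (-1) by ring, zpow_add, h2,
      zpow_neg_one, mul_inv_cancel]
  rw [← hi]
  rcases (Nat.prime_iff_prime_int.mp hc).dvd_mul.mp h3 with e | e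
  · left
    rw [orderOf_dvd_iff_zpow_eq_one, sub_eq_add_neg, zpow_add, zpow_neg_one, mul_inv_eq_one] at e
    exact e
  · right
    rw [orderOf_dvd_iff_zpow_eq_one, zpow_add, zpow_one] at e
    exact eq_inv_of_mul_eq_one_left e

/-- in a cyclic subgroup elements of equal order generate the same subgroup -/
theorem mem_zpowers_of_isCyclic (A : Subgroup G) [IsCyclic A] {c d : G} (hc : c ∈ A) (hd : d ∈ A)
    (h : orderOf d ∣ orderOf c) : d ∈ zpowers c := by
  classical
  haveI := Fintype.ofFinite A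
  let S : Finset A := Finset.univ.filter fun a => a ^ orderOf c = 1
  let T : Finset A := Finset.univ.filter fun a => (a : G) ∈ zpowers c
  have hTS : T ⊆ S := by
    intro a ha
    simp only [S, T, Finset.mem_filter, Finset.mem_univ, true_and] at ha ⊢
    obtain ⟨i, hi⟩ := ha
    refine Subtype.ext ?_
    simp only at hi
    rw [SubmonoidClass.coe_pow, OneMemClass.coe_one, ← hi, ← zpow_natCast, ← zpow_mul, mul_comm,
      zpow_mul, zpow_natCast, pow_orderOf_eq_one, one_zpow]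
  have hT : T.card = orderOf c := by
    rw [← Nat.card_zpowers, ← Nat.card_congr (subgroupOfEquivOfLe (zpowers_le.mpr hc)).toEquiv,
      Nat.card_eq_fintype_card, Fintype.card_subtype]
    rfl
  have he : T = S := Finset.eq_of_subset_of_card_le hTS
    (by rw [hT]; exact IsCyclic.card_pow_eq_one_le (orderOf_pos c))
  have : (⟨d, hd⟩ : A) ∈ T := by
    rw [he]
    simp only [S, Finset.mem_filter, Finset.mem_univ, true_and]
    exact Subtype.ext (orderOf_dvd_iff_pow_eq_one.mp h)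
  simpa [T] using this

end Gen

variable {W : Type*} [Group W]

/-- the stabilizer of `w` in `X` -/
def st (X : Subgroup (MulAut W)) (w : W) : Subgroup (MulAut W) where
  carrier := {g | g ∈ X ∧ g w = w}
  one_mem' := ⟨one_mem X, rfl⟩
  mul_mem' {a b} ha hb := ⟨mul_mem ha.1 hb.1, by rw [mul_apply', hb.2, ha.2]⟩
  inv_mem' {a} ha := ⟨inv_mem ha.1, by
    conv_lhs => rw [← ha.2]
    exact MulEquiv.symm_apply_apply a w⟩

theorem mem_st {X : Subgroup (MulAut W)} {w : W} {g : MulAut W} :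
    g ∈ st X w ↔ g ∈ X ∧ g w = w := Iff.rfl

theorem st_le (X : Subgroup (MulAut W)) (w : W) : st X w ≤ X := fun _ h => h.1

/-- the orbit of `w` under `X` -/
def orbitSet (X : Subgroup (MulAut W)) (w : W) : Set W := {v | ∃ g ∈ X, g w = v}

theorem relIndex_st (X : Subgroup (MulAut W)) (w : W) :
    (st X w).relIndex X = Nat.card (orbitSet X w) := by
  have h1 : (st X w).subgroupOf X = MulAction.stabilizer X w := by
    ext g
    exact ⟨fun h => h.2, fun h => ⟨g.2, h⟩⟩
  rw [relIndex, h1, MulAction.index_stabilizer, ← Nat.card_coe_set_eq]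
  congr 1
  refine congrArg (fun s : Set W => ↥s) (Set.ext fun v => ?_)
  exact ⟨fun ⟨g, hg⟩ => ⟨g.1, g.2, hg⟩, fun ⟨g, hg, e⟩ => ⟨⟨g, hg⟩, e⟩⟩

/-- the common fixed points of a set of automorphisms -/
def FixAll (N : Set (MulAut W)) : Subgroup W where
  carrier := {w | ∀ n ∈ N, n w = w}
  one_mem' n _ := map_one n
  mul_mem' {a b} ha hb n hn := by rw [map_mul, ha n hn, hb n hn]
  inv_mem' {a} ha n hn := by rw [map_inv, ha n hn]

theorem mem_FixAll {N : Set (MulAut W)} {w : W} : w ∈ FixAll N ↔ ∀ n ∈ N, n w = w := Iff.rfl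

theorem fix_mem_of_commute {y j : MulAut W} (h : Commute j y) {v : W} (hv : v ∈ Fix j) :
    y v ∈ Fix j := by
  rw [mem_Fix, ← mul_apply', h.eq, mul_apply', mem_Fix.mp hv]

variable [Finite W]

theorem card_set_modEq {r : ℕ} [Fact r.Prime] {y : MulAut W} (hy : orderOf y = r) (S : Set W)
    (hS : ∀ v ∈ S, y v ∈ S) : Nat.card S ≡ Nat.card {w : W | w ∈ S ∧ y w = w} [MOD r] := by
  have hpow : ∀ (n : ℕ), ∀ v ∈ S, (y ^ n) v ∈ S := by
    intro n
    induction n with
    | zero => intro v hv; rw [pow_zero]; exact hv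
    | succ n ih => intro v hv; rw [pow_succ, mul_apply']; exact ih _ (hS v hv)
  have hz : ∀ g ∈ zpowers y, ∀ v ∈ S, g v ∈ S := by
    intro g hg v hv
    obtain ⟨n, rfl⟩ := mem_powers_iff_mem_zpowers.mpr hg
    exact hpow n v hv
  letI : MulAction (zpowers y) S :=
    { smul := fun g v => ⟨g.1 v.1, hz g.1 g.2 v.1 v.2⟩
      one_smul := fun v => Subtype.ext rfl
      mul_smul := fun g h v => Subtype.ext (mul_apply' g.1 h.1 v.1) }
  have hp : IsPGroup r (zpowers y) := IsPGroup.of_card (n := 1) (by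
    rw [Nat.card_zpowers, hy, pow_one])
  have e : Nat.card (MulAction.fixedPoints (zpowers y) S)
      = Nat.card {w : W | w ∈ S ∧ y w = w} := by
    refine Nat.card_congr
      { toFun := fun v => ⟨v.1.1, v.1.2, congrArg Subtype.val (v.2 ⟨y, mem_zpowers y⟩)⟩
        invFun := fun v => ⟨⟨v.1, v.2.1⟩, fun g => Subtype.ext (by
          obtain ⟨n, hn⟩ := mem_powers_iff_mem_zpowers.mpr g.2
          show g.1 v.1 = v.1
          rw [← hn]
          clear hn
          induction n with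
          | zero => rfl
          | succ n ih => show (y ^ (n + 1)) v.1 = v.1; rw [pow_succ, mul_apply', v.2.2]; exact ih)⟩
        left_inv := fun _ => rfl
        right_inv := fun _ => rfl }
  exact (hp.card_modEq_card_fixedPoints S).trans (by rw [e])

theorem card_eq_two_pow (hW : ∀ w : W, w * w = 1) (V : Subgroup W) :
    ∃ n : ℕ, Nat.card V = 2 ^ n := by
  haveI : Fact (Nat.Prime 2) := ⟨Nat.prime_two⟩
  exact IsPGroup.iff_card.mp (IsPGroup.to_subgroup (fun w => ⟨1, by rw [pow_one, pow_two]; exact hW w⟩) V)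

theorem FixAll_ne_bot [Nontrivial W] (hW : ∀ w : W, w * w = 1) {N : Subgroup (MulAut W)}
    (hN : IsPGroup 2 N) : FixAll (N : Set (MulAut W)) ≠ ⊥ := by
  haveI : Fact (Nat.Prime 2) := ⟨Nat.prime_two⟩
  intro h
  obtain ⟨n, hn⟩ := card_eq_two_pow hW ⊤
  rw [card_top] at hn
  have h2 : 2 ∣ Nat.card W := by
    rw [hn]
    refine dvd_pow_self 2 ?_
    rintro rfl
    exact (Finite.one_lt_card (α := W)).ne' hn
  obtain ⟨w, hw, hw1⟩ := hN.exists_fixed_point_of_prime_dvd_card_of_fixed_point W h2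
    (show (1 : W) ∈ MulAction.fixedPoints N W from fun g => map_one g.1)
  exact hw1 (mem_bot.mp (h ▸ (show w ∈ FixAll (N : Set (MulAut W)) from
    fun g hg => hw ⟨g, hg⟩))).symm

/-- a real element of odd prime order of `X` -/
structure RP (X : Subgroup (MulAut W)) (r : ℕ) (y : MulAut W) : Prop where
  mem : y ∈ X
  prime : r.Prime
  ne_two : r ≠ 2
  order : orderOf y = r
  real : ∃ g ∈ X, g * y * g⁻¹ = y⁻¹

/-- the hypotheses -/
structure Hyp (X : Subgroup (MulAut W)) : Prop where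
  sq : ∀ w : W, w * w = 1
  fpf : ∀ r y, RP X r y → ∀ w : W, y w = w → w = 1
  odd : ∀ w : W, w ≠ 1 → Odd ((st X w).relIndex X)
  cop : ∀ r y, RP X r y → ∀ w : W, w ≠ 1 →
    Nat.Coprime ((centralizer ({y} : Set (MulAut W))).relIndex X) ((st X w).relIndex X)
  irr : ∀ V : Subgroup W, (∀ g ∈ X, ∀ v ∈ V, g v ∈ V) → V = ⊥ ∨ V = ⊤

omit [Finite W] in
theorem RP.ne_one {X : Subgroup (MulAut W)} {r : ℕ} {y : MulAut W} (h : RP X r y) : y ≠ 1 :=
  fun e => h.prime.ne_one (by rw [← h.order, e, orderOf_one])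

omit [Finite W] in
theorem RP.mul_self_ne {X : Subgroup (MulAut W)} {r : ℕ} {y : MulAut W} (h : RP X r y) :
    y * y ≠ 1 :=
  mul_self_ne_one_of_odd (h.order ▸ h.prime.odd_of_ne_two h.ne_two) h.ne_one

omit [Finite W] in
theorem RP.mono {L X : Subgroup (MulAut W)} (hL : L ≤ X) {r : ℕ} {y : MulAut W} (h : RP L r y) :
    RP X r y :=
  ⟨hL h.mem, h.prime, h.ne_two, h.order, h.real.imp fun _ hg => ⟨hL hg.1, hg.2⟩⟩

/-- a subgroup without real elements of odd prime order is 2-closed -/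
theorem closed_of_no_RP (L : Subgroup (MulAut W)) (h : ∀ r y, ¬ RP L r y) (P : Sylow 2 L) :
    (P : Subgroup L).Normal := by
  refine sylow_two_normal_of_no_real (fun r x hr hr2 ho hc => ?_) P
  obtain ⟨g, hg⟩ := isConj_iff.mp hc
  exact h r x.1 ⟨x.2, hr, hr2, (Subgroup.orderOf_coe x).trans ho, g.1, g.2,
    congrArg Subtype.val hg⟩

namespace Hyp

variable {X : Subgroup (MulAut W)} (hX : Hyp X)

include hX

theorem two_trivial {N : Subgroup (MulAut W)} (hNX : N ≤ X) (hN2 : IsPGroup 2 N)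
    (hN : ∀ h ∈ X, ∀ n ∈ N, h * n * h⁻¹ ∈ N) {n : MulAut W} (hn : n ∈ N) : n = 1 := by
  haveI : Fact (Nat.Prime 2) := ⟨Nat.prime_two⟩
  refine MulEquiv.ext fun w => ?_
  by_cases hw : w = 1
  · rw [hw, map_one]; rfl
  · exact (normal_le_of_not_dvd X (st X w) N hNX hN2 hN
      (fun h2 => Nat.not_even_iff_odd.mpr (hX.odd w hw) (even_iff_two_dvd.mpr h2)) hn).2

theorem trans {r : ℕ} {y : MulAut W} (hy : RP X r y) {w : W} (hw : w ≠ 1) {g : MulAut W}
    (hg : g ∈ X) : ∃ c ∈ X, c * y = y * c ∧ c w = g w := by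
  obtain ⟨c, hc, d, hd, e⟩ := exists_mul_of_coprime_index
    ((centralizer ({y} : Set (MulAut W))).subgroupOf X) ((st X w).subgroupOf X) (hX.cop r y hy w hw)
    ⟨g, hg⟩
  rw [mem_subgroupOf, mem_centralizer_singleton_iff] at hc
  refine ⟨c.1, c.2, hc, ?_⟩
  have e' : g = c.1 * d.1 := congrArg Subtype.val e
  rw [e', mul_apply', (mem_subgroupOf.mp hd).2]

omit [Finite W] in
theorem apply_fix {r : ℕ} {y : MulAut W} (hy : RP X r y) {w : W} (hw : y⁻¹ w = y w) : w = 1 := by
  refine hX.fpf r y hy w ?_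
  have h2 : (y ^ 2) w = w := by rw [pow_two, mul_apply', ← hw, inv_apply']
  have h1 : y ∈ st ⊤ w := mem_of_sq_mem_of_odd (hy.order ▸ hy.prime.odd_of_ne_two hy.ne_two)
    ⟨trivial, by rw [← pow_two]; exact h2⟩
  exact h1.2

theorem half_of_inverts {r : ℕ} {y : MulAut W} (hy : RP X r y) {f : MulAut W}
    (hf : orderOf f = 2) (hfy : f * y * f⁻¹ = y⁻¹) :
    Nat.card (Fix f) * Nat.card (Fix f) = Nat.card W := by
  have hc : ∀ a b : W, a * b = b * a := comm_of_sq hX.sq
  refine le_antisymm ?_ ?_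
  · rw [← Nat.card_prod]
    refine Nat.card_le_card_of_injective (fun p => (p.1 : W) * y p.2) ?_
    rintro ⟨⟨a, ha⟩, ⟨b, hb⟩⟩ ⟨⟨a', ha'⟩, ⟨b', hb'⟩⟩ (e : a * y b = a' * y b')
    have hu : a' * a = y (b' * b) := by
      calc a' * a = a' * (a * (y b * y b)) := by rw [hX.sq, mul_one]
        _ = a' * ((a * y b) * y b) := by rw [mul_assoc]
        _ = a' * ((a' * y b') * y b) := by rw [e]
        _ = (a' * a') * (y b' * y b) := by simp only [mul_assoc]
        _ = y (b' * b) := by rw [hX.sq, one_mul, map_mul]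
    have hv : f (b' * b) = b' * b := by rw [map_mul, mem_Fix.mp hb', mem_Fix.mp hb]
    have h1 : y⁻¹ (b' * b) = y (b' * b) := by
      conv_rhs => rw [← hu, ← mem_Fix.mp (mul_mem ha' ha : a' * a ∈ Fix f), hu, ← mul_apply']
      rw [show f * y = y⁻¹ * f by rw [← hfy]; group, mul_apply', hv]
    have hb1 : b' * b = 1 := hX.apply_fix hy h1
    rw [hb1, map_one] at hu
    have key : ∀ {p p' : W}, p' * p = 1 → p = p' := fun {p p'} h =>
      (inv_eq_of_mul_eq_one_right h).symm.trans (inv_eq_of_mul_eq_one_right (hX.sq p'))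
    exact Prod.ext (Subtype.ext (key hu)) (Subtype.ext (key hb1))
  · let φ : W →* Fix f :=
      { toFun := fun w => ⟨w * f w, mul_apply_mem_Fix hX.sq hf w⟩
        map_one' := Subtype.ext (by simp)
        map_mul' := fun a b => Subtype.ext (by
          show a * b * f (a * b) = a * f a * (b * f b)
          rw [map_mul, mul_assoc, ← mul_assoc b, hc b (f a)]
          simp only [mul_assoc]) }
    have hker : φ.ker = Fix f := by
      ext w
      rw [MonoidHom.mem_ker, Subtype.ext_iff, mem_Fix]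
      show w * f w = 1 ↔ _
      constructor
      · intro h
        exact (inv_eq_of_mul_eq_one_right h).symm.trans (inv_eq_of_mul_eq_one_right (hX.sq w))
      · intro h; rw [h, hX.sq]
    rw [← card_mul_index φ.ker, hker, ← hker, index_ker, hker]
    exact Nat.mul_le_mul le_rfl (card_le_card_group _)

theorem exists_inverted {f : MulAut W} (hfX : f ∈ X) (hf : orderOf f = 2) :
    ∃ r y, RP X r y ∧ f * y * f⁻¹ = y⁻¹ := by
  rcases invol_cases X hfX hf with ⟨N, hNX, hN2, hfN, hN⟩ | ⟨r, y, hr, hr2, hy, ho, hfy⟩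
  · exact absurd (hX.two_trivial hNX hN2 hN hfN) (Involution.ne_one_of_orderOf hf)
  · exact ⟨r, y, ⟨hy, hr, hr2, ho, f, hfX, hfy⟩, hfy⟩

theorem half {f : MulAut W} (hfX : f ∈ X) (hf : orderOf f = 2) :
    Nat.card (Fix f) * Nat.card (Fix f) = Nat.card W := by
  obtain ⟨r, y, hy, hfy⟩ := hX.exists_inverted hfX hf
  exact hX.half_of_inverts hy hf hfy

theorem st_closed {w : W} (hw : w ≠ 1) (P : Sylow 2 (st X w)) :
    (P : Subgroup (st X w)).Normal :=
  closed_of_no_RP _ (fun r y h => hw (hX.fpf r y (h.mono (st_le X w)) w h.mem.2)) P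

theorem dvd_sub_one {r : ℕ} {y : MulAut W} (hy : RP X r y) {V : Subgroup W}
    (hV : ∀ v ∈ V, y v ∈ V) {n : ℕ} (hn : Nat.card V = n) : r ∣ n - 1 := by
  haveI := Fact.mk hy.prime
  have h := card_set_modEq hy.order (V : Set W) hV
  have h1 : {w : W | w ∈ (V : Set W) ∧ y w = w} = {1} := by
    ext w
    constructor
    · exact fun h => hX.fpf r y hy w h.2
    · rintro rfl; exact ⟨V.one_mem, map_one y⟩
  rw [h1, Nat.card_coe_set_eq {(1 : W)}, Set.ncard_singleton] at h
  rw [← hn]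
  exact (Nat.modEq_iff_dvd' Nat.card_pos).mp h.symm

theorem dvd_orbit {r : ℕ} {y : MulAut W} (hy : RP X r y) {w : W} (hw : w ≠ 1) :
    r ∣ (st X w).relIndex X := by
  haveI := Fact.mk hy.prime
  rw [relIndex_st]
  have h := card_set_modEq hy.order (orbitSet X w) (by
    rintro v ⟨g, hg, rfl⟩
    exact ⟨y * g, mul_mem hy.mem hg, mul_apply' y g w⟩)
  have h1 : {v : W | v ∈ orbitSet X w ∧ y v = v} = ∅ := by
    refine Set.eq_empty_iff_forall_notMem.mpr ?_
    rintro v ⟨⟨g, hg, rfl⟩, hv⟩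
    exact hw (g.injective ((hX.fpf r y hy _ hv).trans (map_one g).symm))
  rw [h1, Nat.card_coe_set_eq (∅ : Set W), Set.ncard_empty] at h
  exact Nat.modEq_zero_iff_dvd.mp h

theorem solvable_of_no_RP (h : ∀ r y, ¬ RP X r y) : Group.IsSolvable X :=
  isSolvable_of_sylow_two_normal (closed_of_no_RP X h)

theorem exists_invol {r : ℕ} {y : MulAut W} (hy : RP X r y) : ∃ f ∈ X, orderOf f = 2 := by
  haveI : Fact (Nat.Prime 2) := ⟨Nat.prime_two⟩
  obtain ⟨g, hg, he⟩ := hy.real
  have h2 : 2 ∣ Nat.card X := by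
    by_contra h
    have := FG38.eq_one_of_real_of_odd_group (G := X)
      (Nat.not_even_iff_odd.mp fun he => h he.two_dvd) (x := ⟨y, hy.mem⟩) (t := ⟨g, hg⟩)
      (Subtype.ext he)
    exact hy.ne_one (congrArg Subtype.val this)
  obtain ⟨f, hf⟩ := exists_prime_orderOf_dvd_card' 2 h2
  exact ⟨f.1, f.2, (Subgroup.orderOf_coe f).trans hf⟩

end Hyp

end Cfsg.Agent.RealGraph72
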