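import Cfsg.Agent.RealGraph72.LinBase

/-!
Each nontrivial vector is fixed by exactly one Sylow 2-subgroup; the endgame with Glauberman's theorem.
-/

set_option autoImplicit false

open Pointwise

namespace Cfsg.Agent.RealGraph72

open Subgroup

variable {W : Type*} [Group W] [Finite W] {X : Subgroup (MulAut W)}

theorem Hyp.exists_sylow (hX : Hyp X) {w : W} (hw : w ≠ 1) :
    ∃ T : Sylow 2 X, (∀ t ∈ T, (t : MulAut W) w = w) ∧
      (∀ f : X, (f : MulAut W) w = w → (∃ k, orderOf f = 2 ^ k) → f ∈ T) ∧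
      (∀ T' : Sylow 2 X, (∀ t ∈ T', (t : MulAut W) w = w) → T' = T) := by
  haveI : Fact (Nat.Prime 2) := ⟨Nat.prime_two⟩
  obtain ⟨T₀⟩ := (inferInstance : Nonempty (Sylow 2 X))
  set S : Subgroup X := (st X w).subgroupOf X with hS
  obtain ⟨q, hq⟩ := T₀.isPGroup'.nonempty_fixed_point_of_prime_not_dvd_card (X ⧸ S)
    (by rw [← index_eq_card]
        exact fun h2 => Nat.not_even_iff_odd.mpr (hX.odd w hw) (even_iff_two_dvd.mpr h2))
  obtain ⟨g, rfl⟩ := QuotientGroup.mk_surjective q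
  have hT : ((g⁻¹ • T₀ : Sylow 2 X) : Subgroup X) ≤ S := by
    intro t ht
    rw [Sylow.coe_subgroup_smul] at ht
    obtain ⟨n, hn, rfl⟩ := ht
    have h := hq ⟨n, hn⟩
    change ((n * g : X) : X ⧸ S) = (g : X ⧸ S) at h
    rw [eq_comm, QuotientGroup.eq] at h
    show g⁻¹ * n * g⁻¹⁻¹ ∈ S
    rw [inv_inv, mul_assoc]
    exact h
  set T : Sylow 2 X := g⁻¹ • T₀
  have hfix : ∀ t ∈ T, (t : MulAut W) w = w := fun t ht => (hT ht).2
  set e : S ≃* st X w := subgroupOfEquivOfLe (st_le X w)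
  have hnorm : ((T.subtype hT : Sylow 2 S) : Subgroup S).Normal := by
    have h1 := hX.st_closed hw ((T.subtype hT).mapSurjective (f := e.toMonoidHom) e.surjective)
    change (((T.subtype hT : Sylow 2 S) : Subgroup S).map e.toMonoidHom).Normal at h1
    have h2 := h1.comap e.toMonoidHom
    rwa [comap_map_eq_self_of_injective e.injective] at h2
  have h3 : ∀ f : X, (f : MulAut W) w = w → (∃ k, orderOf f = 2 ^ k) → f ∈ T := by
    rintro f hf ⟨k, hk⟩
    have hfS : f ∈ S := ⟨f.2, hf⟩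
    have hp : IsPGroup 2 (zpowers (⟨f, hfS⟩ : S)) := IsPGroup.of_card (n := k) (by
      rw [Nat.card_zpowers, Subgroup.orderOf_mk, hk])
    obtain ⟨R, hR⟩ := hp.exists_le_sylow
    haveI := hnorm
    haveI := Sylow.unique_of_normal (T.subtype hT) hnorm
    have := hR (mem_zpowers _)
    rw [Subsingleton.elim R (T.subtype hT), Sylow.coe_subtype, mem_subgroupOf] at this
    exact this
  refine ⟨T, hfix, h3, fun T' hT' => ?_⟩
  refine (Sylow.ext (T'.3 T.isPGroup' fun t ht => ?_)).symm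
  obtain ⟨k, hk⟩ := IsPGroup.iff_orderOf.mp T'.isPGroup' ⟨t, ht⟩
  exact h3 t (hT' t ht) ⟨k, by rwa [Subgroup.orderOf_mk] at hk⟩

theorem isSolvable_of_involutions_eq {j : MulAut W} (hj : j ∈ X) (hj2 : orderOf j = 2)
    (h : ∀ f ∈ X, ∀ g ∈ X, orderOf f = 2 → orderOf g = 2 → Commute f g → f = g)
    (hC : ∀ P : Sylow 2 ↥(centralizer ({⟨j, hj⟩} : Set X)),
      (P : Subgroup ↥(centralizer ({⟨j, hj⟩} : Set X))).Normal) :
    Group.IsSolvable X := by
  set j' : X := ⟨j, hj⟩
  have hj2' : orderOf j' = 2 := (Subgroup.orderOf_mk j hj).trans hj2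
  obtain ⟨N, hN, hNodd, hNj⟩ := exists_odd_normal hj2' fun f g hf hg hc =>
    Subtype.ext (h f.1 f.2 g.1 g.2 ((Subgroup.orderOf_coe f).trans hf)
      ((Subgroup.orderOf_coe g).trans hg) (hc.map X.subtype))
  haveI := hN
  haveI : Group.IsSolvable N := S0205.result hNodd
  haveI : Group.IsSolvable (centralizer ({j'} : Set X)) := isSolvable_of_sylow_two_normal hC
  have hjj := Involution.mul_self_of_orderOf hj2'
  haveI : Group.IsSolvable (X ⧸ N) := by
    refine Group.isSolvable_of_surjective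
      (f := (QuotientGroup.mk' N).comp (centralizer ({j'} : Set X)).subtype) ?_
    intro q
    obtain ⟨g, rfl⟩ := QuotientGroup.mk_surjective q
    have hc : orderOf (g * j' * g⁻¹) = 2 := by rw [← MulAut.conj_apply, MulEquiv.orderOf_eq, hj2']
    have hm : j' * (g * j' * g⁻¹) ∈ N := by
      have := hNj g
      rwa [inv_eq_of_mul_eq_one_right hjj, show j' * g * j' * g⁻¹ = j' * (g * j' * g⁻¹) by group]
        at this
    obtain ⟨k, hk⟩ := Involution.exists_conj_of_odd hjj (Involution.mul_self_of_orderOf hc)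
      (hNodd.of_dvd_nat (N.orderOf_dvd_natCard hm))
    set n := (j' * (g * j' * g⁻¹)) ^ k with hn
    refine ⟨⟨n⁻¹ * g, ?_⟩, ?_⟩
    · rw [mem_cent']
      calc n⁻¹ * g * j' * (n⁻¹ * g)⁻¹ = n⁻¹ * (g * j' * g⁻¹) * n := by group
        _ = j' := by rw [← hk]; group
    · show ((n⁻¹ * g : X) : X ⧸ N) = (g : X ⧸ N)
      rw [QuotientGroup.mk_mul, QuotientGroup.mk_inv, (QuotientGroup.eq_one_iff n).mpr (zpow_mem hm k),
        inv_one, one_mul]
  exact Group.isSolvable_of_ker_le_range N.subtype (QuotientGroup.mk' N)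
    (by rw [QuotientGroup.ker_mk', range_subtype])

end Cfsg.Agent.RealGraph72
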