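import Cfsg.Agent.RealGraph72.Primitive

/-!
The case in which there is a primitive prime divisor: solvability.
-/

set_option autoImplicit false

open Pointwise

namespace Cfsg.Agent.RealGraph72

open Subgroup

variable {W : Type*} [Group W] [Finite W] {X : Subgroup (MulAut W)}

namespace Prim

variable {a q : ℕ} (P : Prim X a q)

include P

theorem q_dvd_index {r : ℕ} {x : MulAut W} (hx : RP X r x) {w : W} (hw : w ≠ 1) :
    q ∣ (st X w).relIndex X := by
  classical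
  haveI : Fact (Nat.Prime 2) := ⟨Nat.prime_two⟩
  haveI := P.nontrivial
  haveI := Fintype.ofFinite (Sylow 2 X)
  obtain ⟨j, hj, hj2⟩ := P.hyp.exists_invol hx
  choose T hT1 hT2 hT3 using fun v : {v : W // v ≠ 1} => P.hyp.exists_sylow v.2
  let S : Sylow 2 X → Type _ := fun U => {v : W // v ≠ 1 ∧ ∀ t ∈ U, (t : MulAut W) v = v}
  let e : {v : W // v ≠ 1} ≃ Σ U : Sylow 2 X, S U :=
    { toFun := fun v => ⟨T v, v.1, v.2, hT1 v⟩
      invFun := fun p => ⟨p.2.1, p.2.2.1⟩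
      left_inv := fun v => rfl
      right_inv := by
        rintro ⟨U, v, hv, hU⟩
        obtain rfl := hT3 ⟨v, hv⟩ U hU
        rfl }
  obtain ⟨U0⟩ := (inferInstance : Nonempty (Sylow 2 X))
  have hS : ∀ U, Nonempty (S U0 ≃ S U) := by
    intro U
    obtain ⟨g, rfl⟩ := MulAction.exists_smul_eq X U0 U
    refine ⟨
      { toFun := fun v => ⟨(g : MulAut W) v.1,
          fun e => v.2.1 ((g : MulAut W).injective (e.trans (map_one _).symm)), ?_⟩
        invFun := fun v => ⟨((g : MulAut W)⁻¹) v.1,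
          fun e => v.2.1 (((g : MulAut W)⁻¹).injective (e.trans (map_one _).symm)), ?_⟩
        left_inv := fun v => Subtype.ext (MulEquiv.symm_apply_apply _ _)
        right_inv := fun v => Subtype.ext (MulEquiv.apply_symm_apply _ _) }⟩
    · intro t ht
      obtain ⟨n, hn, rfl⟩ : t ∈ MulAut.conj g • (U0 : Subgroup X) := by
        rw [← Sylow.coe_subgroup_smul]; exact ht
      show ((g : MulAut W) * (n : MulAut W) * (g : MulAut W)⁻¹) ((g : MulAut W) v.1) = _
      rw [mul_apply', mul_apply',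
        show (g : MulAut W)⁻¹ ((g : MulAut W) v.1) = v.1 from MulEquiv.symm_apply_apply _ _, v.2.2 n hn]
    · intro t ht
      have hm : g * t * g⁻¹ ∈ g • U0 := by
        show g * t * g⁻¹ ∈ ((g • U0 : Sylow 2 X) : Subgroup X)
        rw [Sylow.coe_subgroup_smul]
        exact ⟨t, ht, rfl⟩
      have := v.2.2 _ hm
      apply (g : MulAut W).injective
      rw [inv_apply']
      exact this
  have hcard : Nat.card (Sylow 2 X) * Nat.card (S U0) = 2 ^ (2 * a) - 1 := by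
    rw [← Nat.card_prod, ← Nat.card_congr (e.trans ((Equiv.sigmaCongrRight fun U =>
      (hS U).some.symm).trans (Equiv.sigmaEquivProd _ _)))]
    haveI := Fintype.ofFinite W
    rw [Nat.card_eq_fintype_card, Fintype.card_subtype_compl, Fintype.card_subtype_eq,
      ← Nat.card_eq_fintype_card, P.card]
  have hfix : Nat.card (S U0)
      = Nat.card (FixAll (((U0 : Subgroup X).map X.subtype : Subgroup (MulAut W)) : Set (MulAut W))) - 1 := by
    set V := FixAll (((U0 : Subgroup X).map X.subtype : Subgroup (MulAut W)) : Set (MulAut W))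
    haveI := Fintype.ofFinite V
    rw [Nat.card_congr (β := {v : V // v ≠ 1})
      { toFun := fun v => ⟨⟨v.1, fun _ ht => by obtain ⟨t, ht, rfl⟩ := ht; exact v.2.2 t ht⟩,
          fun e => v.2.1 (congrArg Subtype.val e)⟩
        invFun := fun v => ⟨v.1.1, fun e => v.2 (Subtype.ext e), fun t ht => v.1.2 _ ⟨t, ht, rfl⟩⟩
        left_inv := fun _ => rfl
        right_inv := fun _ => rfl },
      Nat.card_eq_fintype_card, Fintype.card_subtype_compl, Fintype.card_subtype_eq,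
      ← Nat.card_eq_fintype_card]
  have hq : ¬ q ∣ Nat.card (S U0) := by
    rw [hfix]
    set V := FixAll (((U0 : Subgroup X).map X.subtype : Subgroup (MulAut W)) : Set (MulAut W))
    obtain ⟨p, hp, hpc⟩ := P.card_sub (V := V)
    rw [hpc]
    refine P.qprim p (Nat.pos_of_ne_zero fun e => ?_) (lt_of_le_of_ne hp fun e => ?_)
    · exact FixAll_ne_bot P.hyp.sq (U0.isPGroup'.map _) (eq_bot_of_card_eq V (by rw [hpc, e, pow_zero]))
    · have htop : V = ⊤ := eq_top_of_card_eq V (by rw [hpc, e, P.card])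
      have hj' : orderOf (⟨j, hj⟩ : X) = 2 := (Subgroup.orderOf_mk j hj).trans hj2
      obtain ⟨R, hR⟩ := (IsPGroup.of_card (n := 1) (by rw [Nat.card_zpowers, hj', pow_one]) :
        IsPGroup 2 (zpowers (⟨j, hj⟩ : X))).exists_le_sylow
      obtain ⟨g, hg⟩ := MulAction.exists_smul_eq X U0 R
      have hjR : (⟨j, hj⟩ : X) ∈ MulAut.conj g • (U0 : Subgroup X) := by
        rw [← Sylow.coe_subgroup_smul, hg]; exact hR (mem_zpowers _)
      obtain ⟨n, hn, hne⟩ := hjR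
      have hn1 : n = 1 := Subtype.ext (MulEquiv.ext fun v =>
        (htop ▸ mem_top v : v ∈ V) _ ⟨n, hn, rfl⟩)
      have hne' : (MulAut.conj g) n = (⟨j, hj⟩ : X) := hne
      rw [hn1, map_one] at hne'
      exact Involution.ne_one_of_orderOf hj' hne'.symm
  have hqS : q ∣ Nat.card (Sylow 2 X) :=
    ((Nat.Prime.dvd_mul P.qp).mp (hcard ▸ P.qdvd)).resolve_right hq
  refine hqS.trans ?_
  set U := T ⟨w, hw⟩ with hU
  rw [Sylow.card_eq_index_normalizer U]
  refine index_dvd_of_le fun g hg => ?_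
  have : g • U = U := hT3 ⟨w, hw⟩ (g • U) fun t ht => by
    obtain ⟨n, hn, rfl⟩ : t ∈ MulAut.conj g • (U : Subgroup X) := by
      rw [← Sylow.coe_subgroup_smul]; exact ht
    show ((g : MulAut W) * (n : MulAut W) * (g : MulAut W)⁻¹) w = w
    have h1 : (g : MulAut W)⁻¹ w = w := (inv_mem (show (g : MulAut W) ∈ st X w from hg)).2
    rw [mul_apply', mul_apply', h1, hT1 ⟨w, hw⟩ n hn, (mem_subgroupOf.mp hg).2]
  exact Sylow.smul_eq_iff_mem_normalizer.mp this

theorem exists_RP_q {r : ℕ} {x : MulAut W} (hx : RP X r x) :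
    ∃ c, RP X q c ∧ ∃ h ∈ X, orderOf h = 2 ∧ h * c * h⁻¹ = c⁻¹ := by
  haveI := Fact.mk P.qp
  haveI := P.nontrivial
  obtain ⟨w, hw⟩ := exists_ne (1 : W)
  obtain ⟨g, hg, hgx⟩ := hx.real
  set C : Subgroup (MulAut W) := X ⊓ centralizer ({x} : Set (MulAut W)) with hC
  have hCX : C ≤ X := inf_le_left
  have hqC : q ∣ Nat.card C := by
    have hn : ¬ q ∣ C.relIndex X := fun h => by
      have h2 := P.hyp.cop r x hx w hw
      rw [← inf_relIndex_left, ← hC] at h2
      exact P.qp.not_dvd_one (h2 ▸ Nat.dvd_gcd h (P.q_dvd_index hx hw))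
    have h1 : q ∣ Nat.card X := (P.q_dvd_index hx hw).trans (relIndex_dvd_card _ _)
    rw [← card_mul_index (C.subgroupOf X), Nat.card_congr (subgroupOfEquivOfLe hCX).toEquiv] at h1
    exact (P.qp.dvd_mul.mp h1).resolve_right hn
  obtain ⟨Q⟩ := (inferInstance : Nonempty (Sylow q C))
  have hgC : ∀ b ∈ C, g * b * g⁻¹ ∈ C := by
    intro b hb
    rw [hC, mem_inf, mem_cent'] at hb ⊢
    refine ⟨mul_mem (mul_mem hg hb.1) (inv_mem hg), ?_⟩
    apply inv_injective
    calc (g * b * g⁻¹ * x * (g * b * g⁻¹)⁻¹)⁻¹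
        = g * b * g⁻¹ * x⁻¹ * (g * b * g⁻¹)⁻¹ := by group
      _ = g * b * g⁻¹ * (g * x * g⁻¹) * (g * b * g⁻¹)⁻¹ := by rw [hgx]
      _ = g * (b * x * b⁻¹) * g⁻¹ := by group
      _ = x⁻¹ := by rw [hb.2, hgx]
  set Q0 : Subgroup (MulAut W) := (Q : Subgroup C).map C.subtype with hQ0
  have hle : Q0.map (MulAut.conj g).toMonoidHom ≤ C := by
    rintro _ ⟨b, hb, rfl⟩
    exact hgC b (map_subtype_le _ hb)
  have hcard : Nat.card ((Q0.map (MulAut.conj g).toMonoidHom).subgroupOf C)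
      = q ^ (Nat.card C).factorization q := by
    rw [Nat.card_congr (subgroupOfEquivOfLe hle).toEquiv,
      card_map_of_injective (MulEquiv.injective _), hQ0,
      card_map_of_injective C.subtype_injective, Sylow.card_eq_multiplicity]
  obtain ⟨k, hk⟩ := MulAction.exists_smul_eq C
    (Sylow.ofCard ((Q0.map (MulAut.conj g).toMonoidHom).subgroupOf C) hcard) Q
  set g' := (k : MulAut W) * g with hg'
  have hg'Q : ∀ b ∈ Q0, g' * b * g'⁻¹ ∈ Q0 := by
    intro b hb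
    have hb' : g * b * g⁻¹ ∈ C := hgC b (map_subtype_le _ hb)
    have : k * ⟨_, hb'⟩ * k⁻¹ ∈ (Q : Subgroup C) := by
      rw [← hk, Sylow.coe_subgroup_smul]
      refine smul_mem_pointwise_smul _ (MulAut.conj k) _ ?_
      rw [Sylow.coe_ofCard, mem_subgroupOf]
      exact mem_map_of_mem _ hb
    refine ⟨_, this, ?_⟩
    simp [hg', mul_assoc]
  have hg'x : g' * x * g'⁻¹ = x⁻¹ := by
    have hkx : (k : MulAut W) * x * (k : MulAut W)⁻¹ = x := mem_cent'.mp k.2.2
    calc g' * x * g'⁻¹ = (k : MulAut W) * (g * x * g⁻¹) * (k : MulAut W)⁻¹ := by rw [hg']; group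
      _ = ((k : MulAut W) * x * (k : MulAut W)⁻¹)⁻¹ := by rw [hgx]; group
      _ = x⁻¹ := by rw [hkx]
  haveI : Nontrivial (Q : Subgroup C) :=
    Finite.one_lt_card_iff_nontrivial.mp (lt_of_lt_of_le P.qp.one_lt
      (Nat.le_of_dvd Nat.card_pos (Q.dvd_card_of_dvd_card hqC)))
  haveI := Q.isPGroup'.center_nontrivial
  obtain ⟨e, he⟩ := IsPGroup.iff_card.mp (Q.isPGroup'.to_subgroup (center (Q : Subgroup C)))
  have hqZ : q ∣ Nat.card (center (Q : Subgroup C)) := by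
    rw [he]
    refine dvd_pow_self q fun e0 => ?_
    rw [e0, pow_zero] at he
    exact absurd (Finite.one_lt_card (α := center (Q : Subgroup C))) (by omega)
  obtain ⟨z, hz⟩ := exists_prime_orderOf_dvd_card' q hqZ
  set c : MulAut W := z.1.1.1 with hc
  have hco : orderOf c = q := by
    rw [hc, Subgroup.orderOf_coe, Subgroup.orderOf_coe, Subgroup.orderOf_coe, hz]
  have hcQ : c ∈ Q0 := ⟨z.1.1, z.1.2, rfl⟩
  have hcC : c ∈ C := map_subtype_le _ hcQ
  have hQA : ∀ b ∈ Q0, b ∈ A X c := by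
    rintro b ⟨b, hb, rfl⟩
    refine mem_A.mpr ⟨hCX b.2, ?_⟩
    have := mem_center_iff.mp z.2 ⟨b, hb⟩
    exact congrArg (fun u : (Q : Subgroup C) => u.1.1) this
  have hxA : x ∈ A X c := mem_A.mpr ⟨hx.mem, (mem_cent.mp hcC.2).symm⟩
  obtain ⟨h, hhX, hh2, hhc⟩ := P.exists_invol (hCX hcC) hco le_rfl
    (mul_mem (hCX k.2) hg : g' ∈ X) (hQA _ (hg'Q c hcQ)) hxA hx.mul_self_ne hg'x
  exact ⟨c, ⟨hCX hcC, P.qp, P.q_ne_two, hco, h, hhX, hhc⟩, h, hhX, hh2, hhc⟩

theorem oddCase {c : MulAut W} (hc : RP X q c) {H M : Subgroup (MulAut W)} (hHX : H ≤ X)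
    (hMH : M ≤ H) (hM : ∀ k ∈ H, ∀ m ∈ M, k * m * k⁻¹ ∈ M) (hodd : Odd (Nat.card M))
    (hAM : A X c ≤ M) {h : MulAut W} (hhH : h ∈ H) (hh : orderOf h = 2)
    (hhc : h * c * h⁻¹ = c⁻¹) : ∀ k ∈ H, k * c * k⁻¹ ∈ A X c := by
  have key : ∀ (s : ℕ) (S : Subgroup (MulAut W)), s.Prime → S ≤ M → IsPGroup s S →
      (∀ k ∈ H, ∀ x ∈ S, k * x * k⁻¹ ∈ S) → S ≤ A X c := by
    intro s S hs hSM hSp hS
    haveI := Fact.mk hs
    by_cases hsA : s ∣ Nat.card (A X c)
    · exact normal_le_of_not_dvd H (A X c) S (hSM.trans hMH) hSp hS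
        (P.not_dvd_relIndex hc (hAM.trans hMH) hHX hs hsA)
    have hpow : ∀ u ∈ S, ∃ n, orderOf u = s ^ n := by
      intro u hu
      obtain ⟨n, hn⟩ := IsPGroup.iff_orderOf.mp hSp ⟨u, hu⟩
      exact ⟨n, by rwa [Subgroup.orderOf_mk] at hn⟩
    have hh' : h⁻¹ = h := Involution.inv_of_orderOf hh
    have hcent : ∀ x ∈ S, h * x * h⁻¹ = x := by
      intro x hx
      set u := x⁻¹ * (h * x * h⁻¹) with hu
      have huS : u ∈ S := mul_mem (inv_mem hx) (hS h hhH x hx)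
      have hinv : h * u * h⁻¹ = u⁻¹ := by
        rw [hu, hh']
        calc h * (x⁻¹ * (h * x * h)) * h = h * x⁻¹ * h * x * (h * h) := by group
          _ = (x⁻¹ * (h * x * h))⁻¹ := by
            rw [Involution.mul_self_of_orderOf hh, mul_one, mul_inv_rev, inv_inv, mul_inv_rev,
              mul_inv_rev, hh']
            group
      obtain ⟨n, hn⟩ := hpow u huS
      rcases Nat.eq_zero_or_pos n with rfl | hn0
      · rw [pow_zero, orderOf_eq_one_iff] at hn
        exact (inv_mul_eq_one.mp hn).symm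
      exfalso
      have hs2 : s ≠ 2 := by
        rintro rfl
        have h2 : 2 ∣ orderOf u := hn ▸ dvd_pow_self 2 (by omega)
        exact Nat.not_even_iff_odd.mpr hodd
          (even_iff_two_dvd.mpr (h2.trans (M.orderOf_dvd_natCard (hSM huS))))
      refine hsA (P.dvd_A hc (y := u ^ (s ^ (n - 1)))
        ⟨pow_mem (hHX (hMH (hSM huS))) _, hs, hs2, ?_, h, hHX hhH, by rw [← conj_pow, hinv, inv_pow]⟩)
      rw [orderOf_pow, hn, Nat.gcd_eq_right (Nat.pow_dvd_pow s (by omega)),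
        Nat.pow_div (by omega) hs.pos, show n - (n - 1) = 1 by omega, pow_one]
    intro x hx
    have hcH : c ∈ H := hMH (hAM (self_mem_A hc.mem))
    have h1 : h * (c⁻¹ * x * c) * h⁻¹ = c⁻¹ * x * c := hcent _ (conj_mem_normal hS hcH hx)
    have hsw : h * c⁻¹ * h⁻¹ = c := conj_inv_of_inverts hhc
    have h2 : c * c ∈ centralizer ({x} : Set (MulAut W)) := by
      rw [mem_cent']
      calc c * c * x * (c * c)⁻¹ = c * (c * x * c⁻¹) * c⁻¹ := by group
        _ = c * (h * c⁻¹ * h⁻¹ * (h * x * h⁻¹) * (h * c⁻¹ * h⁻¹)⁻¹) * c⁻¹ := by rw [hsw, hcent x hx]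
        _ = c * (h * (c⁻¹ * x * c) * h⁻¹) * c⁻¹ := by group
        _ = x := by rw [h1]; group
    have h3 : c ∈ centralizer ({x} : Set (MulAut W)) :=
      mem_of_sq_mem_of_odd (hc.order ▸ P.qp.odd_of_ne_two P.q_ne_two) h2
    exact mem_A.mpr ⟨hHX (hMH (hSM hx)), (mem_cent.mp h3).symm⟩
  -- work inside `H`
  intro k hk
  set M' : Subgroup H := M.subgroupOf H with hM'
  haveI : M'.Normal := ⟨fun m hm g => hM g.1 g.2 m.1 hm⟩
  haveI : Group.IsSolvable M' := S0205.result (by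
    rwa [Nat.card_congr (subgroupOfEquivOfLe hMH).toEquiv])
  have hF : ∀ x ∈ Cfsg.fittingSubgroup M', ((x : H) : MulAut W) ∈ A X c := by
    rw [Fitting.fitting_eq_iSup_pCore]
    intro x hx
    have hle : (⨆ p : Nat.Primes, Cfsg.pCore (p : ℕ) M')
        ≤ (A X c).comap (H.subtype.comp M'.subtype) := by
      refine iSup_le fun p y hy => ?_
      haveI := Fact.mk p.2
      refine key p.1 (((Cfsg.pCore (p : ℕ) M').map M'.subtype).map H.subtype) p.2 ?_
        (((Fitting.pCore_isPGroup _).map _).map _) ?_ ⟨_, ⟨y, hy, rfl⟩, rfl⟩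
      · rintro _ ⟨_, ⟨z, hz, rfl⟩, rfl⟩
        exact z.2
      · rintro k hk _ ⟨v, hv, rfl⟩
        exact ⟨⟨k, hk⟩ * v * ⟨k, hk⟩⁻¹, (inferInstance :
          ((Cfsg.pCore (p : ℕ) M').map M'.subtype).Normal).conj_mem v hv _, rfl⟩
    exact hle hx
  set c' : M' := ⟨⟨c, hMH (hAM (self_mem_A hc.mem))⟩, hAM (self_mem_A hc.mem)⟩ with hc'
  have hcF : c' ∈ Cfsg.fittingSubgroup M' := by
    refine Fitting.centralizer_fitting_le ?_
    rw [mem_centralizer_iff]
    intro f hf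
    exact Subtype.ext (Subtype.ext (mem_A.mp (hF f hf)).2)
  have hn : ((⟨k, hk⟩ : H) * (c' : H) * (⟨k, hk⟩ : H)⁻¹)
      ∈ (Cfsg.fittingSubgroup M').map M'.subtype :=
    (inferInstance : ((Cfsg.fittingSubgroup M').map M'.subtype).Normal).conj_mem _
      ⟨c', hcF, rfl⟩ _
  obtain ⟨f, hf, he⟩ := hn
  have := hF f hf
  rw [show (f : H) = (⟨k, hk⟩ : H) * (c' : H) * (⟨k, hk⟩ : H)⁻¹ from he] at this
  exact this

theorem two_trivial {c : MulAut W} (hc : RP X q c) {H N : Subgroup (MulAut W)} (hHX : H ≤ X)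
    (hA : A X c ≤ H) (hNH : N ≤ H) (hN2 : IsPGroup 2 N) (hN : ∀ k ∈ H, ∀ n ∈ N, k * n * k⁻¹ ∈ N)
    {n : MulAut W} (hn : n ∈ N) : n = 1 := by
  haveI : Fact (Nat.Prime 2) := ⟨Nat.prime_two⟩
  refine MulEquiv.ext fun w => ?_
  by_cases hw : w = 1
  · rw [hw, map_one]; rfl
  refine (normal_le_of_not_dvd H (st H w) N hNH hN2 hN ?_ hn).2
  rw [P.card_orbit hc hw (fun g hg => (P.exists_apply hc hw (hHX hg)).imp fun b hb =>
    ⟨⟨hA hb.1, hb.1⟩, hb.2⟩), inf_eq_right.mpr hA]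
  exact fun h2 => Nat.not_even_iff_odd.mpr (P.odd_A hc) (even_iff_two_dvd.mpr h2)

theorem exists_norm (H : Subgroup (MulAut W)) : H ≤ X → ∀ c, RP X q c → A X c ≤ H →
    ∀ h ∈ H, orderOf h = 2 → h * c * h⁻¹ = c⁻¹ →
      ∃ c', RP X q c' ∧ A X c' ≤ H ∧ ∀ k ∈ H, k * c' * k⁻¹ ∈ A X c' := by
  induction hN : Nat.card H using Nat.strong_induction_on generalizing H with
  | _ N IH =>
  subst hN
  intro hHX c₀ hc₀ hA₀ h₀ hh₀ hh₀2 hh₀c
  by_contra hnone
  push Not at hnone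
  -- every real element of odd prime order lies in a suitable centralizer
  have step : ∀ (r : ℕ) (y g : MulAut W), r.Prime → r ≠ 2 → y ∈ H → orderOf y = r → g ∈ H →
      g * y * g⁻¹ = y⁻¹ → ∃ c, RP X q c ∧ A X c ≤ H ∧ y ∈ A X c ∧
        ∀ k ∈ H, k * y * k⁻¹ ∈ zpowers y → k * c * k⁻¹ ∈ A X c := by
    intro r y g hr hr2 hyH hyo hgH hgy
    have hy : RP X r y := ⟨hHX hyH, hr, hr2, hyo, g, hHX hgH, hgy⟩
    obtain ⟨t, ht, htA⟩ := P.mem_conj hc₀ hA₀ hHX hr (P.dvd_A hc₀ hy) hyH hyo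
    set c := t * c₀ * t⁻¹ with hc_def
    have hc : RP X q c := hc₀.conj (hHX ht)
    have hconj : ∀ {b}, b ∈ A X c → t⁻¹ * b * t ∈ A X c₀ := by
      intro b hb
      obtain ⟨hbX, hbc⟩ := mem_A.mp hb
      refine mem_A.mpr ⟨mul_mem (mul_mem (inv_mem (hHX ht)) hbX) (hHX ht), ?_⟩
      calc t⁻¹ * b * t * c₀ = t⁻¹ * (b * c) * t := by rw [hc_def]; group
        _ = t⁻¹ * (c * b) * t := by rw [hbc]
        _ = c₀ * (t⁻¹ * b * t) := by rw [hc_def]; group
    have hAc : A X c ≤ H := fun b hb => by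
      have := mul_mem (mul_mem ht (hA₀ (hconj hb))) (inv_mem ht)
      rwa [show t * (t⁻¹ * b * t) * t⁻¹ = b by group] at this
    have hyA : y ∈ A X c := by
      obtain ⟨-, h1⟩ := mem_A.mp htA
      refine mem_A.mpr ⟨hy.mem, ?_⟩
      calc y * c = t * ((t⁻¹ * y * t) * c₀) * t⁻¹ := by rw [hc_def]; group
        _ = c * y := by rw [h1, hc_def]; group
    refine ⟨c, hc, hAc, hyA, ?_⟩
    set H₁ : Subgroup (MulAut W) := H ⊓ normalizer ((zpowers y : Subgroup (MulAut W)) : Set (MulAut W))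
      with hH₁
    set H₀ : Subgroup (MulAut W) := H ⊓ centralizer ({y} : Set (MulAut W)) with hH₀
    have hmemN : ∀ k : MulAut W, k * y * k⁻¹ ∈ zpowers y →
        k ∈ normalizer ((zpowers y : Subgroup (MulAut W)) : Set (MulAut W)) := fun k hk => by
      refine mem_normalizer_fintype fun d hd => ?_
      obtain ⟨i, rfl⟩ := hd
      simp only
      rw [← conj_zpow]
      exact zpow_mem hk i
    suffices hmain : ∀ k ∈ H₁, k * c * k⁻¹ ∈ A X c from fun k hk hky => hmain k ⟨hk, hmemN k hky⟩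
    have hA0 : A X c ≤ H₀ := fun b hb =>
      ⟨hAc hb, mem_cent.mpr (P.commute_of_mem_A hc.order hb hyA).eq⟩
    have hH01 : H₀ ≤ H₁ := fun k hk => ⟨hk.1, hmemN k (by
      rw [mem_cent'.mp hk.2]; exact mem_zpowers y)⟩
    have hgN : g ∈ H₁ := ⟨hgH, hmemN g (by rw [hgy]; exact inv_mem (mem_zpowers y))⟩
    have hgc : RP X q (g * c * g⁻¹) := hc.conj (hHX hgH)
    have hgA : g * c * g⁻¹ ∈ H₀ := by
      refine mem_inf.mpr ⟨mul_mem (mul_mem hgH (hAc (self_mem_A hc.mem))) (inv_mem hgH), mem_cent.mpr ?_⟩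
      have hcy : Commute c y := P.commute_of_mem_A hc.order (self_mem_A hc.mem) hyA
      have := (hcy.inv_right).map (MulAut.conj g).toMonoidHom
      simp only [MulEquiv.coe_toMonoidHom, MulAut.conj_apply] at this
      rw [conj_inv_of_inverts hgy] at this
      exact this.eq
    obtain ⟨k, hk, hkA⟩ := P.mem_conj hc hA0 (inf_le_left.trans hHX) P.qp (P.q_dvd_A hc) hgA hgc.order
    set g' := k⁻¹ * g with hg'
    have hg'H : g' ∈ H₁ := mul_mem (inv_mem (hH01 hk)) hgN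
    have hg'y : g' * y * g'⁻¹ = y⁻¹ := by
      have hky : k⁻¹ * y⁻¹ * k = y⁻¹ := by
        calc k⁻¹ * y⁻¹ * k = (k⁻¹ * y * k⁻¹⁻¹)⁻¹ := by group
          _ = y⁻¹ := by rw [mem_cent'.mp (inv_mem (mem_inf.mp hk).2)]
      calc g' * y * g'⁻¹ = k⁻¹ * (g * y * g⁻¹) * k := by rw [hg']; group
        _ = y⁻¹ := by rw [hgy, hky]
    have hg'c : g' * c * g'⁻¹ ∈ A X c := by
      rwa [show g' * c * g'⁻¹ = k⁻¹ * (g * c * g⁻¹) * k by rw [hg']; group]
    obtain ⟨h, hhH₁, hh2, hhc⟩ := P.exists_invol hc.mem hc.order (inf_le_left.trans hHX) hg'H hg'c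
      hyA hy.mul_self_ne hg'y
    have hA1 : A X c ≤ H₁ := hA0.trans hH01
    have hcard : ∀ {L : Subgroup (MulAut W)}, L < H → Nat.card L < Nat.card H := fun {L} hL =>
      lt_of_le_of_ne (card_le_of_le hL.le) fun e => hL.ne (eq_of_le_of_card_ge hL.le e.ge)
    by_cases hH1 : H₁ = H
    swap
    · obtain ⟨c', hc', hA', hn'⟩ := IH _ (hcard (lt_of_le_of_ne inf_le_left hH1)) H₁ rfl
        (inf_le_left.trans hHX) c hc hA1 h hhH₁ hh2 hhc
      have heq := P.uniq hc hc' (inf_le_left.trans hHX) hA' hA1 hn'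
      intro k hk
      rw [heq]
      exact P.conj_mem_A hc' (hHX hk.1) (hn' k hk) (heq ▸ self_mem_A hc.mem)
    exfalso
    -- now `H` normalizes `⟨y⟩`
    have hall : ∀ k ∈ H, k * y * k⁻¹ ∈ zpowers y := fun k hk => by
      have h1 : k ∈ H₁ := by rw [hH1]; exact hk
      exact (mem_normalizer_iff.mp h1.2 y).mp (mem_zpowers y)
    have hH0n : ∀ k ∈ H, ∀ m ∈ H₀, k * m * k⁻¹ ∈ H₀ := by
      intro k hk m hm
      refine mem_inf.mpr ⟨mul_mem (mul_mem hk (mem_inf.mp hm).1) (inv_mem hk), mem_cent.mpr ?_⟩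
      obtain ⟨i, hi⟩ := hall k⁻¹ (inv_mem hk)
      simp only at hi
      have hcm : Commute m (y ^ i) := (show Commute m y from (mem_cent.mp hm.2)).zpow_right i
      rw [hi] at hcm
      have := hcm.map (MulAut.conj k).toMonoidHom
      simp only [MulEquiv.coe_toMonoidHom, MulAut.conj_apply] at this
      rw [show k * (k⁻¹ * y * k⁻¹⁻¹) * k⁻¹ = y by group] at this
      exact this.eq
    rcases eq_or_eq_inv_of_invol (Involution.mul_self_of_orderOf hh2) (hyo.symm ▸ hr)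
      (hall h hhH₁.1) with e | e
    · have hlt : H₀ < H := lt_of_le_of_ne inf_le_left fun e0 => hy.mul_self_ne (by
        have hg0 : g ∈ H₀ := by rw [e0]; exact hgH
        rw [mem_cent'.mp hg0.2] at hgy
        exact eq_inv_iff_mul_eq_one.mp hgy)
      obtain ⟨c', hc', hA', hn'⟩ := IH _ (hcard hlt) H₀ rfl
        (inf_le_left.trans hHX) c hc hA0 h ⟨hhH₁.1, mem_cent'.mpr e⟩ hh2 hhc
      obtain ⟨k, hk, hkA⟩ := hnone c' hc' (hA'.trans inf_le_left)
      refine hkA ?_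
      have hsub : A X (k * c' * k⁻¹) ≤ H₀ := fun b hb => by
        obtain ⟨hbX, hbc⟩ := mem_A.mp hb
        have h1 : k⁻¹ * b * k ∈ A X c' := mem_A.mpr
          ⟨mul_mem (mul_mem (inv_mem (hHX hk)) hbX) (hHX hk), by
            calc k⁻¹ * b * k * c' = k⁻¹ * (b * (k * c' * k⁻¹)) * k := by group
              _ = c' * (k⁻¹ * b * k) := by rw [hbc]; group⟩
        have := hH0n k hk _ (hA' h1)
        rwa [show k * (k⁻¹ * b * k) * k⁻¹ = b by group] at this
      rw [← P.uniq (hc'.conj (hHX hk)) hc' (inf_le_left.trans hHX) hA' hsub hn']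
      exact self_mem_A (hc'.conj (hHX hk)).mem
    · have hodd : Odd (Nat.card H₀) := by
        rw [← Nat.not_even_iff_odd]
        intro hev
        haveI : Fact (Nat.Prime 2) := ⟨Nat.prime_two⟩
        obtain ⟨f, hf⟩ := exists_prime_orderOf_dvd_card' 2 (even_iff_two_dvd.mp hev)
        have hf2 : orderOf (f : MulAut W) = 2 := (Subgroup.orderOf_coe f).trans hf
        refine not_both P hr hr2 (P.dvd_add_of_inverted hc hh2 hhc hy hyA e) ?_
        exact P.hyp.dvd_sub_one hy (V := Fix (f : MulAut W))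
          (fun v hv => by
            rw [mem_Fix, ← mul_apply', mem_cent.mp f.2.2, mul_apply', mem_Fix.mp hv])
          (P.half (hHX f.2.1) hf2)
      obtain ⟨k, hk, hkA⟩ := hnone c hc hAc
      exact hkA (P.oddCase hc hHX inf_le_left hH0n hodd hA0 hhH₁.1 hh2 hhc k hk)
  have hno : NoHalf H a := by
    intro r y f hr hr2 hy hyo hf hf2 hfy V hV hst
    obtain ⟨c, hc, -, hyA, hn⟩ := step r y f hr hr2 hy hyo hf hfy
    have hy' : RP X r y := ⟨hHX hy, hr, hr2, hyo, f, hHX hf, hfy⟩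
    have hfc := hn f hf (by rw [hfy]; exact inv_mem (mem_zpowers y))
    rcases eq_or_eq_inv_of_invol (Involution.mul_self_of_orderOf hf2) (hc.order.symm ▸ P.qp)
      (P.mem_zpowers_A hc.mem hc.order hfc (hc.conj (hHX hf)).order) with e | e
    · have hfA : f ∈ A X c := mem_A.mpr ⟨hHX hf, mul_inv_eq_iff_eq_mul.mp e⟩
      rw [(P.commute_of_mem_A hc.order hfA hyA).eq, mul_inv_cancel_right] at hfy
      exact hy'.mul_self_ne (eq_inv_iff_mul_eq_one.mp hfy)
    · exact not_both P hr hr2 (P.dvd_add_of_inverted hc hf2 e hy' hyA hfy)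
        (P.hyp.dvd_sub_one hy' hst hV)
  have hsame : ∀ f ∈ H, ∀ g ∈ H, orderOf f = 2 → orderOf g = 2 → Commute f g → Fix f = Fix g := by
    intro f hf g hg hf2 hg2 hfg
    set L : Subgroup (MulAut W) := H ⊓ centralizer ({g} : Set (MulAut W)) with hL
    refine (eq_of_le_of_card_ge ?_
      (by rw [P.half (hHX hg) hg2, P.half (hHX hf) hf2])).symm
    rcases invol_cases L (⟨hf, mem_cent.mpr hfg.eq⟩ : f ∈ L) hf2 with
      ⟨N, hNL, hN2, hfN, hN⟩ | ⟨r, y, hr, hr2, hy, hyo, hfy⟩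
    swap
    · exact (hno r y f hr hr2 hy.1 hyo hf hf2 hfy (Fix g) (P.half (hHX hg) hg2) fun v hv =>
        fix_mem_of_commute (show Commute g y from (mem_cent.mp hy.2).symm) hv).elim
    rcases invol_cases H hg hg2 with ⟨M, hMH, hM2, hgM, hM⟩ | ⟨r, y, hr, hr2, hy, hyo, hgy⟩
    · exact absurd (P.two_trivial hc₀ hHX hA₀ hMH hM2 hM hgM) (Involution.ne_one_of_orderOf hg2)
    obtain ⟨c, hc, hAc, hyA, hn⟩ := step r y g hr hr2 hy hyo hg hgy
    have hgc := hn g hg (by rw [hgy]; exact inv_mem (mem_zpowers y))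
    intro w hw
    by_cases hw1 : w = 1
    · rw [hw1]; exact one_mem _
    haveI : Fact (Nat.Prime 2) := ⟨Nat.prime_two⟩
    refine (normal_le_of_not_dvd L (st L w) N hNL hN2 hN ?_ hfN).2
    rw [P.card_orbit hc hw1 fun l hl => ?_]
    · intro h2
      exact Nat.not_even_iff_odd.mpr ((P.odd_A hc).of_dvd_nat (card_dvd_of_le inf_le_right))
        (even_iff_two_dvd.mpr h2)
    obtain ⟨b, hb, hbw⟩ := P.exists_apply hc hw1 (hHX hl.1)
    refine ⟨b, ⟨⟨hAc hb, mem_cent.mpr ?_⟩, hb⟩, hbw⟩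
    have hgb : g * b * g⁻¹ ∈ A X c := P.conj_mem_A hc (hHX hg) hgc hb
    have hw' : g w = w := hw
    have : g * b * g⁻¹ = b := P.eq_of_apply_eq hc.order hgb hb hw1 (by
      rw [mul_apply', mul_apply', Involution.inv_of_orderOf hg2, hw', hbw, ← mul_apply',
        ← mem_cent.mp hl.2, mul_apply', hw'])
    exact (mul_inv_eq_iff_eq_mul.mp this).symm
  have hcc : c₀ ∈ H := hA₀ (self_mem_A hc₀.mem)
  have hinv := eq_of_commute P.hyp.sq H a (fun f hf hf2 => P.half (hHX hf) hf2) hsame hno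
    ⟨h₀, hh₀, c₀ * h₀ * c₀⁻¹, mul_mem (mul_mem hcc hh₀) (inv_mem hcc), hh₀2,
      by rw [← MulAut.conj_apply, MulEquiv.orderOf_eq, hh₀2], fun e =>
        P.qprim a P.apos (by have := P.apos; omega)
          (P.hyp.dvd_sub_one hc₀ (V := Fix h₀) (fun v hv => by rw [e, ← img_Fix]; exact ⟨v, hv, rfl⟩)
            (P.half (hHX hh₀) hh₀2))⟩
  obtain ⟨N, hN, hNodd, hNj⟩ := exists_odd_normal (j := (⟨h₀, hh₀⟩ : H))
    ((Subgroup.orderOf_mk h₀ hh₀).trans hh₀2) fun f g hf hg hc =>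
    Subtype.ext (hinv f.1 f.2 g.1 g.2 ((Subgroup.orderOf_coe f).trans hf)
      ((Subgroup.orderOf_coe g).trans hg) (hc.map H.subtype))
  haveI := hN
  set C : H := ⟨c₀, hcc⟩
  have hCN : C ∈ N := by
    have hCC : C * C ∈ N := by
      have := hNj C⁻¹
      rwa [show (⟨h₀, hh₀⟩ : H) * C⁻¹ * (⟨h₀, hh₀⟩ : H)⁻¹ = C from
        Subtype.ext (conj_inv_of_inverts hh₀c), inv_inv] at this
    exact mem_of_sq_mem_of_odd (by
      rw [show orderOf C = q from (Subgroup.orderOf_mk c₀ hcc).trans hc₀.order]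
      exact P.qp.odd_of_ne_two P.q_ne_two) hCC
  set A' : Subgroup H := (A X c₀).subgroupOf H
  have hqA' : ¬ q ∣ (A'.subgroupOf N).index := fun h =>
    P.not_dvd_relIndex hc₀ hA₀ hHX P.qp (P.q_dvd_A hc₀)
      (h.trans (relIndex_dvd_index_of_normal N A'))
  have hMn : ∀ k ∈ H, ∀ m ∈ (N ⊔ A').map H.subtype, k * m * k⁻¹ ∈ (N ⊔ A').map H.subtype := by
    rintro k hk _ ⟨m, hm, rfl⟩
    refine ⟨⟨k, hk⟩ * m * ⟨k, hk⟩⁻¹, ?_, rfl⟩
    set K : H := ⟨k, hk⟩
    haveI := Fact.mk P.qp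
    obtain ⟨n, hn⟩ := exists_conj_mem_of_not_dvd_index (A'.subgroupOf N) hqA'
      ⟨K * C * K⁻¹, hN.conj_mem C hCN K⟩ ⟨1, by
        rw [Subgroup.orderOf_mk, ← MulAut.conj_apply, MulEquiv.orderOf_eq, pow_one]
        exact (Subgroup.orderOf_mk c₀ hcc).trans hc₀.order⟩
    set t : H := (n : H)⁻¹ * K
    have htc : (t : MulAut W) * c₀ * (t : MulAut W)⁻¹ ∈ A X c₀ := by
      have h1 : ((n : H)⁻¹ * (K * C * K⁻¹) * (n : H) : H) ∈ A' := hn
      rw [show (n : H)⁻¹ * (K * C * K⁻¹) * (n : H) = t * C * t⁻¹ by simp only [t]; group] at h1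
      exact h1
    have hm' : t * m * t⁻¹ ∈ N ⊔ A' := by
      have hle : N ⊔ A' ≤ (N ⊔ A').comap (MulAut.conj t).toMonoidHom := by
        refine sup_le (fun x hx => mem_sup_left (hN.conj_mem x hx t)) fun x hx => mem_sup_right ?_
        exact P.conj_mem_A hc₀ (hHX t.2) htc hx
      exact hle hm
    have hnM : (n : H) ∈ N ⊔ A' := mem_sup_left n.2
    have := mul_mem (mul_mem hnM hm') (inv_mem hnM)
    rwa [show (n : H) * (t * m * t⁻¹) * (n : H)⁻¹ = K * m * K⁻¹ by simp only [t]; group] at this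
  have hModd : Odd (Nat.card ((N ⊔ A').map H.subtype)) := by
    rw [card_map_of_injective H.subtype_injective, ← card_mul_index (N.subgroupOf (N ⊔ A'))]
    refine Odd.mul (by rwa [Nat.card_congr (subgroupOfEquivOfLe le_sup_left).toEquiv]) ?_
    change Odd (N.relIndex (N ⊔ A'))
    rw [sup_comm, relIndex_sup_right]
    refine Odd.of_dvd_nat ?_ (relIndex_dvd_card N A')
    rw [Nat.card_congr (subgroupOfEquivOfLe hA₀).toEquiv]
    exact P.odd_A hc₀
  obtain ⟨k, hk, hkA⟩ := hnone c₀ hc₀ hA₀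
  exact hkA (P.oddCase hc₀ hHX (map_subtype_le _) hMn hModd
    (fun b hb => ⟨⟨b, hA₀ hb⟩, mem_sup_right hb, rfl⟩) hh₀ hh₀2 hh₀c k hk)

theorem isSolvable : Group.IsSolvable X := by
  by_cases hex : ∃ r y, RP X r y
  swap
  · exact P.hyp.solvable_of_no_RP fun r y h => hex ⟨r, y, h⟩
  obtain ⟨r, x, hx⟩ := hex
  obtain ⟨c₁, hc₁, h, hh, hh2, hhc⟩ := P.exists_RP_q hx
  obtain ⟨c, hc, hA, hn⟩ := P.exists_norm X le_rfl c₁ hc₁ inf_le_left h hh hh2 hhc
  set B : Subgroup X := (A X c).subgroupOf X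
  haveI : B.Normal := ⟨fun b hb g => P.conj_mem_A hc g.2 (hn g.1 g.2) hb⟩
  haveI : Group.IsSolvable B := Group.isSolvable_of_comm fun u v =>
    Subtype.ext (Subtype.ext (P.commute_of_mem_A hc.order u.2 v.2).eq)
  haveI : Group.IsSolvable (X ⧸ B) := by
    refine Group.isSolvable_of_comm fun u v => ?_
    obtain ⟨u, rfl⟩ := QuotientGroup.mk_surjective u
    obtain ⟨v, rfl⟩ := QuotientGroup.mk_surjective v
    rw [← QuotientGroup.mk_mul, ← QuotientGroup.mk_mul, QuotientGroup.eq]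
    refine mem_subgroupOf.mpr (mem_A.mpr ⟨SetLike.coe_mem _, ?_⟩)
    obtain ⟨i, hi⟩ := P.mem_zpowers_A hc.mem hc.order (hn u u.2) (hc.conj u.2).order
    obtain ⟨j, hj⟩ := P.mem_zpowers_A hc.mem hc.order (hn v v.2) (hc.conj v.2).order
    simp only at hi hj
    have h1 : ((u : MulAut W) * v) * c * ((u : MulAut W) * v)⁻¹ = c ^ (i * j) := by
      rw [zpow_mul, hi, conj_zpow, hj]; group
    have h2 : ((v : MulAut W) * u) * c * ((v : MulAut W) * u)⁻¹ = c ^ (i * j) := by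
      rw [mul_comm i j, zpow_mul, hj, conj_zpow, hi]; group
    refine mul_inv_eq_iff_eq_mul.mp ?_
    push_cast
    calc ((u : MulAut W) * v)⁻¹ * ((v : MulAut W) * u) * c
          * (((u : MulAut W) * v)⁻¹ * ((v : MulAut W) * u))⁻¹
        = ((u : MulAut W) * v)⁻¹ * (((v : MulAut W) * u) * c * ((v : MulAut W) * u)⁻¹)
          * ((u : MulAut W) * v) := by group
      _ = ((u : MulAut W) * v)⁻¹ * (((u : MulAut W) * v) * c * ((u : MulAut W) * v)⁻¹)
          * ((u : MulAut W) * v) := by rw [h1, h2]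
      _ = c := by group
  exact Group.isSolvable_of_ker_le_range B.subtype (QuotientGroup.mk' B)
    (by rw [QuotientGroup.ker_mk', range_subtype])

end Prim

end Cfsg.Agent.RealGraph72
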