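import Cfsg.Agent.RealGraph72.Six
import Cfsg.Agent.RealGraph72.PrimMain
import Cfsg.Agent.Lib.NumberTheory.Zsigmondy

/-!
Solvability of the linear groups in question.
-/

set_option autoImplicit false

namespace Cfsg.Agent.RealGraph72

open Subgroup

theorem Hyp.isSolvable {W : Type*} [Group W] [Finite W] [Nontrivial W] {X : Subgroup (MulAut W)}
    (hX : Hyp X) : Group.IsSolvable X := by
  by_cases hex : ∃ r y, RP X r y
  swap
  · exact hX.solvable_of_no_RP fun r y h => hex ⟨r, y, h⟩
  obtain ⟨r, x, hx⟩ := hex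
  obtain ⟨f, hf, hf2⟩ := hX.exists_invol hx
  obtain ⟨a, ha⟩ := card_eq_two_pow hX.sq (Fix f)
  have hW : Nat.card W = 2 ^ (2 * a) := by rw [← hX.half hf hf2, ha, two_mul, pow_add]
  have ha0 : 0 < a := by
    refine Nat.pos_of_ne_zero fun e => ?_
    rw [e, mul_zero, pow_zero] at hW
    exact (Finite.one_lt_card (α := W)).ne' hW
  by_cases h6 : 2 * a = 6
  · exact Six.isSolvable hX (by rw [hW, h6])
  obtain ⟨q, hq, hqd, hqp⟩ := NumberTheory.exists_isPrimitivePrimeDivisor (a := 2) (n := 2 * a)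
    (by norm_num) (by omega) (fun h => h6 h.2) (fun h => by
      obtain ⟨_, m, hm⟩ := h
      rcases Nat.eq_zero_or_pos m with rfl | hm0
      · norm_num at hm
      · have := dvd_pow_self 2 (Nat.pos_iff_ne_zero.mp hm0)
        rw [← hm] at this
        norm_num at this)
  exact (⟨hX, ha0, hW, hq, hqd, hqp⟩ : Prim X a q).isSolvable

end Cfsg.Agent.RealGraph72
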