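import Cfsg.Agent.RealGraph72.Linear

/-!
Groups whose real class sizes split.
-/

set_option autoImplicit false

namespace Cfsg.Agent.RealGraph72

open Subgroup

variable {G : Type*} [Group G]

theorem cs_eq_of_isConj [Finite G] {x y : G} (h : IsConj x y) : cs x = cs y := by
  rw [cs_eq_ncard, cs_eq_ncard]
  congr 1
  ext z
  exact ⟨fun hz => h.symm.trans hz, fun hz => h.trans hz⟩

/-- the splitting of the real class sizes -/
structure Split (G : Type*) [Group G] (π₁ π₂ : Set ℕ) : Prop where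
  disj : Disjoint π₁ π₂
  cover : ∀ q : ℕ, q.Prime → (∃ x : G, IsConj x x⁻¹ ∧ q ∣ cs x) → q ∈ π₁ ∨ q ∈ π₂
  sep : ∀ a ∈ π₁, ∀ b ∈ π₂, ∀ x : G, IsConj x x⁻¹ → ¬ (a ∣ cs x ∧ b ∣ cs x)
  left : ∃ a ∈ π₁, a.Prime ∧ ∃ x : G, IsConj x x⁻¹ ∧ a ∣ cs x
  right : ∃ b ∈ π₂, b.Prime ∧ ∃ x : G, IsConj x x⁻¹ ∧ b ∣ cs x

/-- all prime divisors of `n` lie in `π` -/
def PiNum (π : Set ℕ) (n : ℕ) : Prop := ∀ q : ℕ, q.Prime → q ∣ n → q ∈ π

namespace Split

variable {π₁ π₂ : Set ℕ} (S : Split G π₁ π₂)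

include S

theorem symm : Split G π₂ π₁ :=
  ⟨S.disj.symm, fun q hq h => (S.cover q hq h).symm,
    fun a ha b hb x hx h => S.sep b hb a ha x hx ⟨h.2, h.1⟩, S.right, S.left⟩

theorem pure {x : G} (hx : IsConj x x⁻¹) : PiNum π₁ (cs x) ∨ PiNum π₂ (cs x) := by
  by_contra! h
  obtain ⟨p, hp, hpd, hp1⟩ : ∃ p, p.Prime ∧ p ∣ cs x ∧ p ∉ π₁ := by
    simpa [PiNum, and_assoc] using h.1
  obtain ⟨q, hq, hqd, hq2⟩ : ∃ q, q.Prime ∧ q ∣ cs x ∧ q ∉ π₂ := by
    simpa [PiNum, and_assoc] using h.2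
  exact S.sep q ((S.cover q hq ⟨x, hx, hqd⟩).resolve_right hq2) p
    ((S.cover p hp ⟨x, hx, hpd⟩).resolve_left hp1) x hx ⟨hqd, hpd⟩

theorem coprime {m n : ℕ} (hm : PiNum π₁ m) (hn : PiNum π₂ n) : Nat.Coprime m n :=
  Nat.coprime_of_dvd fun q hq h1 h2 => Set.disjoint_left.mp S.disj (hm q hq h1) (hn q hq h2)

theorem eq_pi_of_dvd {x : G} (hx : IsConj x x⁻¹) {p : ℕ} (hp : p ∈ π₁) (hpp : p.Prime)
    (h : p ∣ cs x) : PiNum π₁ (cs x) :=
  (S.pure hx).resolve_right fun h2 => Set.disjoint_left.mp S.disj hp (h2 p hpp h)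

variable [Finite G]

theorem product_cases {x y : G} (hx : IsConj x x⁻¹) (hy : IsConj y y⁻¹) (hx1 : PiNum π₁ (cs x))
    (hy2 : PiNum π₂ (cs y)) : cs (x * y) ∣ cs x ∨ cs (x * y) ∣ cs y := by
  have hc := S.coprime hx1 hy2
  have hz := real_mul_of_coprime hc hx hy
  rcases S.pure hz with h | h
  · exact Or.inl ((S.coprime h hy2).dvd_of_dvd_mul_right (cs_mul_dvd hc))
  · exact Or.inr ((S.coprime hx1 h).symm.dvd_of_dvd_mul_left (cs_mul_dvd hc))

end Split

theorem cs_eq_one_of_shift_eq_bot [Finite G] {y : G} (h : shift y = ⊥) : cs y = 1 := by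
  rw [cs, index_eq_one, eq_top_iff]
  intro g _
  have := conj_mul_inv_mem_shift y g
  rw [h, mem_bot, mul_inv_eq_one] at this
  exact mem_cent'.mpr this

theorem sq_of_mem_shift {y : G} (hy : y * y = 1) (hc : shift y ≤ centralizer ({y} : Set G)) :
    ∀ a ∈ shift y, a * a = 1 ∧ ∀ b ∈ shift y, a * b = b * a := by
  have hgen : ∀ g : G, (g * y * g⁻¹ * y⁻¹) * (g * y * g⁻¹ * y⁻¹) = 1 := by
    intro g
    have h1 := mem_cent.mp (hc (conj_mul_inv_mem_shift y g))
    have hcm : Commute (g * y * g⁻¹) y := by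
      have : Commute (g * y * g⁻¹ * y⁻¹) y := h1
      simpa using this.mul_left (Commute.refl y)
    calc g * y * g⁻¹ * y⁻¹ * (g * y * g⁻¹ * y⁻¹) = (g * y * g⁻¹) * (g * y * g⁻¹) * (y⁻¹ * y⁻¹) := by
          rw [mul_assoc (g * y * g⁻¹) y⁻¹, ← mul_assoc y⁻¹, ← hcm.inv_right.eq]
          simp only [mul_assoc]
      _ = g * (y * y) * g⁻¹ * (y * y)⁻¹ := by group
      _ = 1 := by rw [hy]; group
  have hcomm : ∀ a ∈ shift y, ∀ b ∈ shift y, a * b = b * a := by
    intro a ha b hb
    induction hb using closure_induction with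
    | mem v hv =>
      obtain ⟨g, rfl⟩ := hv
      have h1 : Commute a y := mem_cent.mp (hc ha)
      have h2 : Commute (g⁻¹ * a * g) y := mem_cent.mp (hc (by
        have := (shift_normal y).conj_mem a ha g⁻¹
        rwa [inv_inv] at this))
      have h3 : Commute a (g * y * g⁻¹) := by
        have := h2.map (MulAut.conj g).toMonoidHom
        simp only [MulEquiv.coe_toMonoidHom, MulAut.conj_apply] at this
        rwa [show g * (g⁻¹ * a * g) * g⁻¹ = a by group] at this
      exact (h3.mul_right h1.inv_right).eq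
    | one => simp
    | mul u v _ _ hu hv => exact ((show Commute a u from hu).mul_right hv).eq
    | inv u _ hu => exact (show Commute a u from hu).inv_right.eq
  intro a ha
  refine ⟨?_, hcomm a ha⟩
  induction ha using closure_induction with
  | mem v hv => obtain ⟨g, rfl⟩ := hv; exact hgen g
  | one => rw [one_mul]
  | mul u v hu hv iu iv =>
    rw [mul_assoc, ← mul_assoc v, hcomm v hv u hu, mul_assoc u v v, iv, mul_one, iu]
  | inv u _ iu => rw [← mul_inv_rev, iu, inv_one]

namespace Split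

variable {π₁ π₂ : Set ℕ} (S : Split G π₁ π₂) [Finite G]

include S

/-- if all sizes are odd, a contradiction -/
theorem false_of_dvd_left {x y : G} (hy : y * y = 1) (hm : Odd (cs x))
    (hc : Nat.Coprime (cs x) (cs y)) (hd : cs (x * y) ∣ cs x) : cs y = 1 := by
  obtain ⟨-, hcard⟩ := translate hc hd
  have hle : shift y ≤ centralizer ({y} : Set G) :=
    normal_le_cent _ _ (hc.coprime_dvd_left hcard)
  refine cs_eq_one_of_shift_eq_bot ((eq_bot_iff_forall _).mpr fun a ha => ?_)
  have h2 : orderOf a ∣ 2 := orderOf_dvd_of_pow_eq_one (by rw [pow_two]; exact (sq_of_mem_shift hy hle a ha).1)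
  rcases (Nat.dvd_prime Nat.prime_two).mp h2 with e | e
  · exact orderOf_eq_one_iff.mp e
  · have := ((shift y).orderOf_dvd_natCard ha).trans hcard
    rw [e] at this
    exact absurd (even_iff_two_dvd.mpr this) (Nat.not_even_iff_odd.mpr hm)

theorem exists_even : ∃ x : G, IsConj x x⁻¹ ∧ 2 ∣ cs x := by
  by_contra! hodd
  obtain ⟨a, ha, hap, x, hx, hxa⟩ := S.left
  obtain ⟨b, hb, hbp, y, hy, hyb⟩ := S.right
  have hxs := sq_eq_one_of_cs_odd hx (hodd x hx)
  have hys := sq_eq_one_of_cs_odd hy (hodd y hy)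
  have hox : Odd (cs x) := Nat.not_even_iff_odd.mp fun h => hodd x hx h.two_dvd
  have hoy : Odd (cs y) := Nat.not_even_iff_odd.mp fun h => hodd y hy h.two_dvd
  have hx1 := S.eq_pi_of_dvd hx ha hap hxa
  have hy2 := S.symm.eq_pi_of_dvd hy hb hbp hyb
  have hc := S.coprime hx1 hy2
  rcases S.product_cases hx hy hx1 hy2 with hd | hd
  · exact hbp.ne_one (Nat.dvd_one.mp (S.false_of_dvd_left hys hox hc hd ▸ hyb))
  · have hd' : cs (y * x) ∣ cs y := by
      rwa [cs_eq_of_isConj (isConj_iff.mpr ⟨x, by group⟩ : IsConj (y * x) (x * y))]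
    exact hap.ne_one (Nat.dvd_one.mp (S.false_of_dvd_left hxs hoy hc.symm hd' ▸ hxa))

end Split

/-- the situation after normalisation -/
structure Data (G : Type*) [Group G] (π₁ π₂ : Set ℕ) (y : G) : Prop where
  split : Split G π₁ π₂
  two : 2 ∈ π₁
  real : IsConj y y⁻¹
  pi : PiNum π₂ (cs y)
  big : cs y ≠ 1

/-- nontrivial real elements of odd order -/
structure OddReal (u : G) : Prop where
  real : IsConj u u⁻¹
  odd : Odd (orderOf u)
  ne : u ≠ 1

theorem OddReal.conj {u : G} (h : OddReal u) (g : G) : OddReal (g * u * g⁻¹) :=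
  ⟨real_conj h.real g, by rw [← MulAut.conj_apply, MulEquiv.orderOf_eq]; exact h.odd,
    fun e => h.ne (by rwa [mul_inv_eq_one, mul_eq_left] at e)⟩

namespace Data

variable [Finite G] {π₁ π₂ : Set ℕ} {y : G} (D : Data G π₁ π₂ y)

include D

theorem not_two_mem : 2 ∉ π₂ := Set.disjoint_left.mp D.split.disj D.two

theorem y_odd : ¬ 2 ∣ cs y := fun h => D.not_two_mem (D.pi 2 Nat.prime_two h)

theorem y_sq : y * y = 1 := sq_eq_one_of_cs_odd D.real D.y_odd

theorem pi_u {u : G} (hu : OddReal u) : PiNum π₁ (cs u) :=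
  D.split.eq_pi_of_dvd hu.real D.two Nat.prime_two
    (two_dvd_cs hu.real (mul_self_ne_one_of_odd hu.odd hu.ne))

theorem not_commute {u : G} (hu : OddReal u) : ¬ Commute u y := by
  intro huy
  have hy2 := D.y_sq
  obtain ⟨g, hg⟩ := isConj_iff.mp hu.real
  obtain ⟨c, hc, d, hd, e⟩ := exists_mul_of_coprime_index (centralizer ({y} : Set G))
    (centralizer ({u} : Set G)) (D.split.coprime (D.pi_u hu) D.pi).symm g
  rw [mem_cent'] at hc hd
  have hcu : c * u * c⁻¹ = u⁻¹ := by
    rw [← hg, e]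
    calc c * u * c⁻¹ = c * (d * u * d⁻¹) * c⁻¹ := by rw [hd]
      _ = c * d * u * (c * d)⁻¹ := by group
  have hz : IsConj (u * y) (u * y)⁻¹ := isConj_iff.mpr ⟨c, by
    calc c * (u * y) * c⁻¹ = (c * u * c⁻¹) * (c * y * c⁻¹) := by group
      _ = u⁻¹ * y := by rw [hcu, hc]
      _ = (u * y)⁻¹ := by
        rw [mul_inv_rev, inv_eq_of_mul_eq_one_right hy2, huy.inv_left.eq]⟩
  have hu' : u ∈ zpowers (u * y) := by
    refine mem_of_sq_mem_of_odd hu.odd ?_
    have : u * u = (u * y) ^ 2 := by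
      rw [huy.mul_pow, pow_two, pow_two, hy2, mul_one]
    rw [this]
    exact npow_mem_zpowers _ _
  have hy' : y ∈ zpowers (u * y) := by
    have := mul_mem (inv_mem hu') (mem_zpowers (u * y))
    rwa [inv_mul_cancel_left] at this
  have hle : ∀ t ∈ zpowers (u * y), centralizer ({u * y} : Set G) ≤ centralizer ({t} : Set G) := by
    rintro t ⟨i, rfl⟩ k hk
    exact mem_cent.mpr ((show Commute k (u * y) from mem_cent.mp hk).zpow_right i).eq
  have h1 : 2 ∣ cs (u * y) := (two_dvd_cs hu.real (mul_self_ne_one_of_odd hu.odd hu.ne)).trans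
    (cs_dvd_of_le (hle u hu'))
  obtain ⟨b, hb, hbd⟩ := Nat.exists_prime_and_dvd D.big
  exact D.split.sep 2 D.two b (D.pi b hb hbd) _ hz ⟨h1, hbd.trans (cs_dvd_of_le (hle y hy'))⟩

theorem prime_mem {r : ℕ} (hr : r.Prime) {u : G} (hu : OddReal u) (hord : ∃ k, orderOf u = r ^ k) :
    r ∈ π₂ := by
  haveI := Fact.mk hr
  refine D.pi r hr (by_contra fun h => ?_)
  obtain ⟨g, hg⟩ := exists_conj_mem_of_not_dvd_index (centralizer ({y} : Set G)) h u hord
  have := hu.conj g⁻¹
  rw [inv_inv] at this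
  exact D.not_commute this (mem_cent.mp hg)

theorem quotient_prime_mem (N : Subgroup G) [N.Normal] {r : ℕ} (hr : r.Prime) (hr2 : r ≠ 2)
    {a : G ⧸ N} (ha : orderOf a = r) (hreal : IsConj a a⁻¹) : r ∈ π₂ := by
  haveI := Fact.mk hr
  obtain ⟨u, i, hu1, hord, hodd, hur, -, -⟩ := exists_real_lift N hr2 ha hreal
  exact D.prime_mem hr ⟨hur, hodd, hu1⟩ hord

theorem solvable_caseB (h : ∀ u : G, OddReal u → y * u * y⁻¹ = u⁻¹) : Group.IsSolvable G := by
  have hcomm : ∀ u v : G, OddReal u → OddReal v → Commute u v := by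
    intro u v hu hv
    have h1 : y * (v * u * v⁻¹) * y⁻¹ = (v * u * v⁻¹)⁻¹ := h _ (hu.conj v)
    have h2 : y * (v * u * v⁻¹) * y⁻¹ = v⁻¹ * u⁻¹ * v := by
      calc y * (v * u * v⁻¹) * y⁻¹ = (y * v * y⁻¹) * (y * u * y⁻¹) * (y * v * y⁻¹)⁻¹ := by group
        _ = v⁻¹ * u⁻¹ * v := by rw [h u hu, h v hv]; group
    rw [h1] at h2
    have h3 : v * v ∈ centralizer ({u⁻¹} : Set G) := by
      rw [mem_cent']
      calc v * v * u⁻¹ * (v * v)⁻¹ = v * (v * u * v⁻¹)⁻¹ * v⁻¹ := by group
        _ = v * (v⁻¹ * u⁻¹ * v) * v⁻¹ := by rw [h2]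
        _ = u⁻¹ := by group
    have h4 := mem_cent.mp (mem_of_sq_mem_of_odd hv.odd h3)
    have h5 : Commute v u⁻¹ := h4
    exact (Commute.inv_right_iff.mp h5).symm
  set A0 : Subgroup G := closure {u : G | OddReal u} with hA0
  have hcomm' : ∀ a ∈ A0, ∀ b ∈ A0, a * b = b * a := fun a ha b hb => by
    have hle : A0 ≤ centralizer (({u : G | OddReal u}) : Set G) :=
      (closure_le _).mpr fun u hu => mem_centralizer_iff.mpr fun v hv => (hcomm v u hv hu).eq
    have h2 : A0 ≤ centralizer (A0 : Set G) := by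
      rw [hA0, centralizer_closure]; exact hle
    exact ((mem_centralizer_iff.mp (h2 ha)) b hb).symm
  haveI : A0.Normal := by
    refine ⟨fun a ha g => ?_⟩
    have hle : A0 ≤ A0.comap (MulAut.conj g).toMonoidHom :=
      (closure_le _).mpr fun u hu => subset_closure (hu.conj g : OddReal (g * u * g⁻¹))
    exact hle ha
  haveI : Group.IsSolvable A0 :=
    Group.isSolvable_of_comm fun a b => Subtype.ext (hcomm' a a.2 b b.2)
  haveI : Group.IsSolvable (G ⧸ A0) := by
    refine isSolvable_of_sylow_two_normal (sylow_two_normal_of_no_real fun r a hr hr2 ha hreal => ?_)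
    haveI := Fact.mk hr
    obtain ⟨u, i, hu1, hord, hodd, hur, -, hne⟩ := exists_real_lift A0 hr2 ha hreal
    exact hne ((QuotientGroup.eq_one_iff u).mpr (subset_closure (show OddReal u from ⟨hur, hodd, hu1⟩)))
  exact Group.isSolvable_of_ker_le_range A0.subtype (QuotientGroup.mk' A0)
    (by rw [QuotientGroup.ker_mk', range_subtype])

theorem solvable : Group.IsSolvable G := by
  by_cases hB : ∀ u : G, OddReal u → y * u * y⁻¹ = u⁻¹
  · exact D.solvable_caseB hB
  push Not at hB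
  obtain ⟨u₀, hu₀, hnB⟩ := hB
  have hyy := D.y_sq
  have hcases : ∀ u, OddReal u → cs (u * y) ∣ cs u ∨ y * u * y⁻¹ = u⁻¹ := by
    intro u hu
    rcases D.split.product_cases hu.real D.real (D.pi_u hu) D.pi with h | h
    · exact Or.inl h
    · right
      have hz := real_mul_of_coprime (D.split.coprime (D.pi_u hu) D.pi) hu.real D.real
      have h2 := sq_eq_one_of_cs_odd hz fun h2 => D.y_odd (h2.trans h)
      calc y * u * y⁻¹ = u⁻¹ * (u * y * (u * y)) * (y * y)⁻¹ := by group
        _ = u⁻¹ := by rw [h2, hyy]; group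
  have hA := (hcases u₀ hu₀).resolve_right hnB
  obtain ⟨-, hcard⟩ := translate (D.split.coprime (D.pi_u hu₀) D.pi) hA
  have hle : shift y ≤ centralizer ({y} : Set G) :=
    normal_le_cent _ _ ((D.split.coprime (D.pi_u hu₀) D.pi).coprime_dvd_left hcard)
  set W : Subgroup G := shift y with hW
  have hWsq := fun a ha => (sq_of_mem_shift hyy hle a ha).1
  have hAall : ∀ v, OddReal v → cs (v * y) ∣ cs v := by
    intro v hv
    refine (hcases v hv).resolve_right fun hB => ?_
    have h1 : v⁻¹ * v⁻¹ ∈ W := by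
      have := conj_mul_inv_mem_shift y v⁻¹
      rwa [inv_inv, show v⁻¹ * y * v * y⁻¹ = v⁻¹ * (y * v * y⁻¹) by group, hB] at this
    exact mul_self_ne_one_of_odd (orderOf_inv v ▸ hv.odd) (inv_ne_one.mpr hv.ne)
      (by
        by_contra hne
        have h2 := hWsq _ h1
        have h3 : orderOf (v⁻¹ * v⁻¹) ∣ 2 := orderOf_dvd_of_pow_eq_one (by rw [pow_two]; exact h2)
        have h4 : Odd (orderOf (v⁻¹ * v⁻¹)) := by
          refine Odd.of_dvd_nat (orderOf_inv v ▸ hv.odd) ?_
          rw [← pow_two]; exact orderOf_pow_dvd 2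
        rcases (Nat.dvd_prime Nat.prime_two).mp h3 with e | e
        · exact hne (orderOf_eq_one_iff.mp e)
        · rw [e] at h4; exact absurd h4 (by decide))
  have hfpf : ∀ v, OddReal v → ∀ w ∈ W, v * w = w * v → w = 1 := by
    intro v hv w hw hvw
    obtain ⟨hconj, -⟩ := translate (D.split.coprime (D.pi_u hv) D.pi) (hAall v hv)
    obtain ⟨k, hk⟩ := isConj_iff.mp (hconj w hw)
    have ho : orderOf (v * w) = orderOf v := by rw [← hk, ← MulAut.conj_apply, MulEquiv.orderOf_eq]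
    have h1 : (v * w) ^ orderOf v = 1 := by rw [← ho, pow_orderOf_eq_one]
    obtain ⟨t, ht⟩ := hv.odd
    rw [(show Commute v w from hvw).mul_pow, pow_orderOf_eq_one, one_mul, ht, pow_succ, pow_mul,
      pow_two, hWsq w hw, one_pow, one_mul] at h1
    exact h1
  have hWne : W ≠ ⊥ := fun e => D.big (cs_eq_one_of_shift_eq_bot e)
  -- a minimal normal subgroup inside
  classical
  obtain ⟨W1, ⟨hW1n, hW1le, hW1ne⟩, hW1min⟩ := Set.exists_min_image
    {V : Subgroup G | V.Normal ∧ V ≤ W ∧ V ≠ ⊥} (fun V : Subgroup G => Nat.card V) (Set.toFinite _)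
    ⟨W, shift_normal y, le_rfl, hWne⟩
  haveI := hW1n
  haveI : Nontrivial W1 := (nontrivial_iff_ne_bot W1).mpr hW1ne
  have hW1sq : ∀ w : W1, w * w = 1 := fun w => Subtype.ext (hWsq _ (hW1le w.2))
  have hW1pi : ∀ w ∈ W1, w ≠ 1 → PiNum π₂ (cs w) := by
    intro w hw hw1
    have hww := hWsq w (hW1le hw)
    have hwr := real_of_sq hww
    refine (D.split.pure hwr).resolve_left fun h1 => ?_
    rcases D.split.product_cases hwr D.real h1 D.pi with hd | hd
    · obtain ⟨k, hk⟩ := isConj_iff.mp ((translate (D.split.coprime h1 D.pi) hd).1 w (hW1le hw))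
      rw [hww] at hk
      exact hw1 (by rwa [mul_inv_eq_one, mul_eq_left] at hk)
    · have hd' : cs (y * w) ∣ cs y := by
        rwa [cs_eq_of_isConj (isConj_iff.mpr ⟨w, by group⟩ : IsConj (y * w) (w * y))]
      obtain ⟨-, hcardw⟩ := translate (D.split.coprime h1 D.pi).symm hd'
      have hb : shift w = ⊥ := by
        refine (eq_bot_iff_forall _).mpr fun a ha => ?_
        have haW : a ∈ W := by
          refine hW1le ((closure_le W1).mpr ?_ ha)
          rintro _ ⟨g, rfl⟩
          exact mul_mem (hW1n.conj_mem w hw g) (inv_mem hw)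
        rcases (Nat.dvd_prime Nat.prime_two).mp
          (orderOf_dvd_of_pow_eq_one (by rw [pow_two]; exact hWsq a haW) : orderOf a ∣ 2) with e | e
        · exact orderOf_eq_one_iff.mp e
        · have := ((shift w).orderOf_dvd_natCard ha).trans hcardw
          rw [e] at this
          exact absurd this D.y_odd
      have hc1 := cs_eq_one_of_shift_eq_bot hb
      rw [cs, index_eq_one] at hc1
      exact hw1 (hfpf u₀ hu₀ w (hW1le hw)
        (mem_cent.mp (hc1 ▸ mem_top u₀ : u₀ ∈ centralizer ({w} : Set G))))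
  -- the linear group
  set f : G →* MulAut W1 := MulAut.conjNormal with hf
  have happ : ∀ (g : G) (w : W1), ((f g w : W1) : G) = g * w * g⁻¹ := fun g w =>
    MulAut.conjNormal_apply g w
  have hlift : ∀ r x, RP f.range r x → ∃ u, OddReal u ∧ ∃ i : ℕ, f u = x ^ i ∧ x ^ i ≠ 1 := by
    intro r x hx
    haveI := Fact.mk hx.prime
    set e := QuotientGroup.quotientKerEquivRange f
    set x' : f.range := ⟨x, hx.mem⟩
    obtain ⟨g, hg, hgx⟩ := hx.real
    have hreal : IsConj (e.symm x') (e.symm x')⁻¹ := isConj_iff.mpr ⟨e.symm ⟨g, hg⟩, by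
      rw [← map_inv, ← map_mul, ← map_mul, ← map_inv]
      exact congrArg e.symm (Subtype.ext hgx)⟩
    have hord : orderOf (e.symm x') = r := by
      rw [MulEquiv.orderOf_eq, Subgroup.orderOf_mk, hx.order]
    obtain ⟨u, i, hu1, -, hodd, hur, hi, hne⟩ := exists_real_lift f.ker hx.ne_two hord hreal
    have h1 : f u = x ^ i := by
      have := congrArg (fun z => ((e z : f.range) : MulAut W1)) hi
      simp only [map_pow, MulEquiv.apply_symm_apply] at this
      exact this
    refine ⟨u, ⟨hur, hodd, hu1⟩, i, h1, fun e1 => hne ?_⟩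
    rw [QuotientGroup.eq_one_iff, MonoidHom.mem_ker, h1, e1]
  have horb : ∀ w : W1, (st f.range w).relIndex f.range = cs (w : G) := by
    intro w
    rw [relIndex_st, cs_eq_ncard, Nat.card_coe_set_eq,
      ← Set.ncard_image_of_injective (orbitSet f.range w) Subtype.val_injective]
    congr 1
    ext z
    constructor
    · rintro ⟨v, ⟨_, ⟨g, rfl⟩, rfl⟩, rfl⟩
      exact isConj_iff.mpr ⟨g, (happ g w).symm⟩
    · intro hz
      obtain ⟨g, rfl⟩ := isConj_iff.mp hz
      exact ⟨f g w, ⟨f g, ⟨g, rfl⟩, rfl⟩, happ g w⟩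
  have hX : Hyp f.range := by
    refine ⟨hW1sq, fun r x hx w hw => ?_, fun w hw => ?_, fun r x hx w hw => ?_, fun V hV => ?_⟩
    · obtain ⟨u, hu, i, hui, -⟩ := hlift r x hx
      have h1 : (x ^ i) w = w := (show x ^ i ∈ st ⊤ w from
        pow_mem (⟨trivial, hw⟩ : x ∈ st ⊤ w) i).2
      rw [← hui] at h1
      have h2 : u * (w : G) * u⁻¹ = w := by rw [← happ, h1]
      exact Subtype.ext (hfpf u hu w (hW1le w.2) (mul_inv_eq_iff_eq_mul.mp h2))
    · have hw' : (w : G) ≠ 1 := fun e => hw (Subtype.ext e)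
      rw [horb, ← Nat.not_even_iff_odd]
      exact fun he => D.not_two_mem (hW1pi w w.2 hw' 2 Nat.prime_two he.two_dvd)
    · obtain ⟨u, hu, i, hui, hi1⟩ := hlift r x hx
      have hw' : (w : G) ≠ 1 := fun e => hw (Subtype.ext e)
      rw [horb]
      refine (D.split.coprime (D.pi_u hu) (hW1pi w w.2 hw')).coprime_dvd_left ?_
      have hle' : (centralizer ({u} : Set G)).map f.rangeRestrict
          ≤ (centralizer ({x} : Set (MulAut W1))).subgroupOf f.range := by
        rintro _ ⟨g, hg, rfl⟩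
        rw [mem_subgroupOf, mem_cent]
        have hxi : x ∈ zpowers (x ^ i) := by
          rw [← zpowers_le]
          refine (eq_of_le_of_card_ge (zpowers_le.mpr (npow_mem_zpowers x i)) ?_).ge
          rw [Nat.card_zpowers, Nat.card_zpowers]
          have hd : orderOf (x ^ i) ∣ r := hx.order ▸ orderOf_pow_dvd i
          rcases (Nat.dvd_prime hx.prime).mp hd with e | e
          · exact absurd (orderOf_eq_one_iff.mp e) hi1
          · rw [e, hx.order]
        obtain ⟨j, hj⟩ := hxi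
        simp only at hj
        have hc : Commute (f g) (f u) := (show Commute g u from mem_cent.mp hg).map f
        rw [hui] at hc
        have := hc.zpow_right j
        rw [hj] at this
        exact this.eq
      exact (index_dvd_of_le hle').trans (index_map_dvd _ f.rangeRestrict_surjective)
    · have hn : (V.map W1.subtype).Normal := by
        refine ⟨fun a ha g => ?_⟩
        obtain ⟨v, hv, rfl⟩ := ha
        exact ⟨f g v, hV _ ⟨g, rfl⟩ v hv, happ g v⟩
      by_cases hb : V = ⊥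
      · exact Or.inl hb
      refine Or.inr (eq_top_of_card_eq V (le_antisymm (card_le_card_group V) ?_))
      have := hW1min (V.map W1.subtype) ⟨hn, (map_subtype_le V).trans hW1le,
        fun e => hb ((map_eq_bot_iff_of_injective V W1.subtype_injective).mp e)⟩
      rwa [card_map_of_injective W1.subtype_injective] at this
  haveI : Group.IsSolvable f.range := hX.isSolvable
  haveI : Group.IsSolvable f.ker := by
    refine isSolvable_of_sylow_two_normal (sylow_two_normal_of_no_real fun r v hr hr2 hv hreal => ?_)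
    obtain ⟨w, hw⟩ := exists_ne (1 : W1)
    have hvo : OddReal (v : G) := ⟨(isConj_iff.mpr ((isConj_iff.mp hreal).imp' Subtype.val
      fun k hk => congrArg Subtype.val hk)), by
        rw [Subgroup.orderOf_coe, hv]; exact hr.odd_of_ne_two hr2,
      fun e => hr.ne_one (by rw [← hv, show v = 1 from Subtype.ext e, orderOf_one])⟩
    have hfix : (f v w : W1) = w := by rw [MonoidHom.mem_ker.mp v.2]; rfl
    refine hw (Subtype.ext (hfpf v hvo w (hW1le w.2) (mul_inv_eq_iff_eq_mul.mp ?_)))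
    rw [← happ, hfix]
  exact Group.isSolvable_of_ker_le_range f.ker.subtype f.rangeRestrict
    (by rw [MonoidHom.ker_rangeRestrict, range_subtype])

/-- the subgroup generated by the 2-elements -/
theorem closure_two_normal : (closure {g : G | ∃ k : ℕ, orderOf g = 2 ^ k}).Normal := by
  refine ⟨fun a ha g => ?_⟩
  have hle : closure {g : G | ∃ k : ℕ, orderOf g = 2 ^ k} ≤
      (closure {g : G | ∃ k : ℕ, orderOf g = 2 ^ k}).comap (MulAut.conj g).toMonoidHom :=
    (closure_le _).mpr fun u hu => subset_closure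
      ⟨hu.choose, (MulEquiv.orderOf_eq (MulAut.conj g) u).trans hu.choose_spec⟩
  exact hle ha

theorem not_dvd_closure {r : ℕ} (hr : r.Prime) (hr2 : r ≠ 2) (hr1 : r ∈ π₁) :
    ¬ r ∣ Nat.card (closure {g : G | ∃ k : ℕ, orderOf g = 2 ^ k}) := by
  classical
  intro hrK
  haveI := Fact.mk hr
  haveI := D.solvable
  set K := closure {g : G | ∃ k : ℕ, orderOf g = 2 ^ k} with hK
  haveI := D.closure_two_normal
  obtain ⟨N, ⟨hNn, hNK, hNr⟩, hNmin⟩ := Set.exists_min_image
    {N : Subgroup G | N.Normal ∧ N ≤ K ∧ ¬ r ∣ N.relIndex K} (fun N : Subgroup G => Nat.card N)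
    (Set.toFinite _) ⟨K, D.closure_two_normal, le_rfl, by rw [relIndex_self]; exact hr.not_dvd_one⟩
  haveI := hNn
  have hN1 : N ≠ ⊥ := by
    rintro rfl
    exact hNr (by rwa [relIndex_bot_left])
  obtain ⟨M, ⟨hMn, hMN⟩, hMmax⟩ := Set.exists_max_image
    {M : Subgroup G | M.Normal ∧ M < N} (fun M : Subgroup G => Nat.card M)
    (Set.toFinite _) ⟨⊥, inferInstance, bot_lt_iff_ne_bot.mpr hN1⟩
  haveI := hMn
  have hrM : r ∣ M.relIndex N := by
    by_contra h
    have hlt : Nat.card M < Nat.card N :=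
      lt_of_le_of_ne (card_le_of_le hMN.le) fun e => hMN.ne (eq_of_le_of_card_ge hMN.le e.ge)
    refine absurd (hNmin M ⟨hMn, hMN.le.trans hNK, ?_⟩) hlt.not_ge
    rw [← relIndex_mul_relIndex _ _ _ hMN.le hNK]
    exact fun hd => (hr.dvd_mul.mp hd).elim h hNr
  set π := QuotientGroup.mk' M with hπ
  have hker : π.ker = M := QuotientGroup.ker_mk' M
  set V := N.map π with hV
  haveI : V.Normal := hNn.map π (QuotientGroup.mk'_surjective M)
  have hVmin : ∀ V' : Subgroup (G ⧸ M), V'.Normal → V' ≤ V → V' = ⊥ ∨ V' = V := by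
    intro V' hV' hle
    haveI := hV'
    have h1 : V'.comap π ≤ N := by
      refine (comap_mono hle).trans ?_
      rw [hV, comap_map_eq_self]
      rw [hker]; exact hMN.le
    by_cases he : V'.comap π = N
    · exact Or.inr (by rw [hV, ← he, map_comap_eq_self_of_surjective (QuotientGroup.mk'_surjective M)])
    · left
      have hMle : M ≤ V'.comap π := by
        conv_lhs => rw [← hker]
        exact ker_le_comap π V'
      have := eq_of_le_of_card_ge hMle
        (hMmax (V'.comap π) ⟨hV'.comap π, lt_of_le_of_ne h1 he⟩)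
      rw [← map_comap_eq_self_of_surjective (QuotientGroup.mk'_surjective M) V', ← hπ, ← this,
        Subgroup.map_eq_bot_iff]
      exact hker.ge
  have hVcard : r ∣ Nat.card V := by
    have : M.relIndex N = Nat.card V := by
      rw [hV, Nat.card_congr (QuotientGroup.quotientKerEquivRange (π.comp N.subtype) |>.trans
        (MulEquiv.subgroupCongr (by rw [MonoidHom.range_comp, range_subtype]))).toEquiv.symm,
        ← index_eq_card, relIndex]
      congr 1
      ext n
      rw [mem_subgroupOf, MonoidHom.mem_ker, MonoidHom.comp_apply, ← MonoidHom.mem_ker, hker]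
      rfl
    rwa [← this]
  have hVne : V ≠ ⊥ := by
    intro e
    rw [e, card_bot] at hVcard
    exact hr.not_dvd_one hVcard
  have hVab : ∀ a ∈ V, ∀ b ∈ V, a * b = b * a := by
    have hc : ⁅V, V⁆ = ⊥ := (hVmin _ inferInstance (commutator_le_left V V)).resolve_right
      (Group.IsSolvable.commutator_lt_of_ne_bot hVne).ne
    intro a ha b hb
    have := (commutator_eq_bot_iff_le_centralizer.mp hc) ha
    exact ((mem_centralizer_iff.mp this) b hb).symm
  have hVexp : ∀ a ∈ V, a ^ r = 1 := by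
    let Vr : Subgroup (G ⧸ M) :=
      { carrier := {a | a ∈ V ∧ a ^ r = 1}
        one_mem' := ⟨one_mem V, one_pow r⟩
        mul_mem' := fun {a b} ha hb => ⟨mul_mem ha.1 hb.1, by
          rw [(show Commute a b from hVab a ha.1 b hb.1).mul_pow, ha.2, hb.2, one_mul]⟩
        inv_mem' := fun {a} ha => ⟨inv_mem ha.1, by rw [inv_pow, ha.2, inv_one]⟩ }
    have hVrn : Vr.Normal := ⟨fun a ha g => ⟨(inferInstance : V.Normal).conj_mem a ha.1 g, by
      rw [conj_pow, ha.2, mul_one, mul_inv_cancel]⟩⟩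
    rcases hVmin Vr hVrn (fun a ha => ha.1) with h | h
    · obtain ⟨c, hc⟩ := exists_prime_orderOf_dvd_card' r hVcard
      have : (c : G ⧸ M) ∈ Vr := ⟨c.2, by rw [← hc, ← Subgroup.orderOf_coe, pow_orderOf_eq_one]⟩
      rw [h, mem_bot] at this
      rw [show c = 1 from Subtype.ext this, orderOf_one] at hc
      exact absurd hc.symm hr.ne_one
    · intro a ha
      exact (h.ge ha).2
  -- two-elements centralize `V`
  set Kb := K.map π with hKb
  have hVKb : V ≤ Kb := map_mono hNK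
  have hcentral : Kb ≤ centralizer (V : Set (G ⧸ M)) := by
    rw [hKb, hK, MonoidHom.map_closure, closure_le]
    rintro _ ⟨t, ⟨k, hk⟩, rfl⟩
    rw [SetLike.mem_coe, mem_centralizer_iff]
    set s := π t
    have hk' : s ^ (2 ^ k) = 1 := by rw [← map_pow, ← hk, pow_orderOf_eq_one, map_one]
    by_contra hne
    push Not at hne
    obtain ⟨v₀, hv₀, hne⟩ := hne
    have hex : ∃ j, ∀ v ∈ V, v * s ^ (2 ^ j) = s ^ (2 ^ j) * v :=
      ⟨k, fun v _ => by rw [hk', mul_one, one_mul]⟩
    have hj0 : Nat.find hex ≠ 0 := fun e => hne (by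
      have := Nat.find_spec hex v₀ hv₀
      rwa [e, pow_zero, pow_one] at this)
    set h := s ^ (2 ^ (Nat.find hex - 1)) with hh
    obtain ⟨v, hv, hvne⟩ : ∃ v ∈ V, v * h ≠ h * v := by
      have := Nat.find_min hex (show Nat.find hex - 1 < Nat.find hex by omega)
      push Not at this
      exact this
    have hh2 : h * h = s ^ (2 ^ Nat.find hex) := by
      rw [hh, ← pow_add, ← two_mul, ← pow_succ', Nat.sub_one_add_one hj0]
    set u := v⁻¹ * (h * v * h⁻¹) with hu
    have huV : u ∈ V := mul_mem (inv_mem hv) ((inferInstance : V.Normal).conj_mem v hv h)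
    have hu1 : u ≠ 1 := fun e => hvne (by
      rw [inv_mul_eq_one, eq_mul_inv_iff_mul_eq] at e
      exact e)
    have hinv : h * u * h⁻¹ = u⁻¹ := by
      have h1 : (h * h) * v * (h * h)⁻¹ = v :=
        mul_inv_eq_iff_eq_mul.mpr (hh2 ▸ (Nat.find_spec hex v hv).symm)
      calc h * u * h⁻¹ = (h * v⁻¹ * h⁻¹) * ((h * h) * v * (h * h)⁻¹) := by rw [hu]; group
        _ = (h * v⁻¹ * h⁻¹) * v := by rw [h1]
        _ = u⁻¹ := by rw [hu]; group
    have huo : orderOf u = r := orderOf_eq_prime (hVexp u huV) hu1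
    exact Set.disjoint_left.mp D.split.disj hr1
      (D.quotient_prime_mem M hr hr2 huo (isConj_iff.mpr ⟨h, hinv⟩))
  -- a normal complement
  haveI : (V.subgroupOf Kb).Normal := inferInstance
  have hVp : IsPGroup r V := fun a => ⟨1, by
    rw [pow_one]; exact Subtype.ext (hVexp a.1 a.2)⟩
  have hcop : Nat.Coprime (Nat.card (V.subgroupOf Kb)) (V.subgroupOf Kb).index := by
    rw [Nat.card_congr (subgroupOfEquivOfLe hVKb).toEquiv]
    obtain ⟨e, he⟩ := IsPGroup.iff_card.mp hVp
    rw [he]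
    refine Nat.Coprime.pow_left _ ((Nat.Prime.coprime_iff_not_dvd hr).mpr fun h => hNr ?_)
    refine h.trans ?_
    let φ : K →* Kb := π.subgroupMap K
    have hφ : Function.Surjective φ := π.subgroupMap_surjective K
    have hle : (N.subgroupOf K).map φ ≤ V.subgroupOf Kb := by
      rintro _ ⟨n, hn, rfl⟩
      exact ⟨n.1, hn, rfl⟩
    exact (index_dvd_of_le hle).trans (index_map_dvd _ hφ)
  obtain ⟨H, hH⟩ := exists_right_complement'_of_coprime hcop
  haveI : H.Normal := by
    refine ⟨fun a ha g => ?_⟩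
    obtain ⟨⟨v, b⟩, hvb, -⟩ := hH.existsUnique g
    simp only at hvb
    have hba : (b : Kb) * a * (b : Kb)⁻¹ ∈ H := mul_mem (mul_mem b.2 ha) (inv_mem b.2)
    have hc : (v : Kb) * ((b : Kb) * a * (b : Kb)⁻¹) = ((b : Kb) * a * (b : Kb)⁻¹) * v :=
      Subtype.ext ((mem_centralizer_iff.mp
        (hcentral ((b : Kb) * a * (b : Kb)⁻¹).2)) _ v.2)
    rw [← hvb, show (v : Kb) * b * a * ((v : Kb) * b)⁻¹
      = (v : Kb) * ((b : Kb) * a * (b : Kb)⁻¹) * (v : Kb)⁻¹ by group, hc, mul_inv_cancel_right]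
    exact hba
  have htop : H = ⊤ := by
    rw [eq_top_iff]
    rintro ⟨z, hz⟩ -
    have hle : Kb ≤ H.map Kb.subtype := by
      show K.map π ≤ H.map Kb.subtype
      rw [map_le_iff_le_comap]
      refine (closure_le _).mpr ?_
      rintro t ⟨k, hk⟩
      have htK : π t ∈ Kb := ⟨t, subset_closure ⟨k, hk⟩, rfl⟩
      refine ⟨⟨π t, htK⟩, ?_, rfl⟩
      rw [SetLike.mem_coe, ← QuotientGroup.eq_one_iff (N := H), ← orderOf_eq_one_iff]
      have h1 : orderOf ((⟨π t, htK⟩ : Kb) : Kb ⧸ H) ∣ 2 ^ k := by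
        refine orderOf_dvd_of_pow_eq_one ?_
        rw [← QuotientGroup.mk_pow, QuotientGroup.eq_one_iff]
        have : (⟨π t, htK⟩ : Kb) ^ 2 ^ k = 1 := Subtype.ext (by
          rw [SubmonoidClass.coe_pow, OneMemClass.coe_one, ← map_pow, ← hk, pow_orderOf_eq_one,
            map_one])
        rw [this]; exact one_mem H
      obtain ⟨e, he⟩ := IsPGroup.iff_card.mp hVp
      have h2 : orderOf ((⟨π t, htK⟩ : Kb) : Kb ⧸ H) ∣ r ^ e := by
        refine (_root_.orderOf_dvd_natCard _).trans ?_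
        rw [← index_eq_card, hH.index_eq_card, Nat.card_congr (subgroupOfEquivOfLe hVKb).toEquiv, he]
      exact Nat.dvd_one.mp (((Nat.coprime_primes Nat.prime_two hr).mpr hr2.symm).pow k e ▸
        Nat.dvd_gcd h1 h2)
    obtain ⟨⟨z', hz'⟩, hzH, e⟩ := hle hz
    obtain rfl : z' = z := e
    exact hzH
  have := hH.card_mul
  rw [htop, card_top, Nat.card_congr (subgroupOfEquivOfLe hVKb).toEquiv] at this
  have h1 : Nat.card V = 1 := (mul_eq_right₀ Nat.card_pos.ne').mp this
  rw [h1] at hVcard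
  exact hr.not_dvd_one hVcard

theorem conclusion (hex : ∃ u : G, OddReal u) :
    (∃ x : (closure {g : G | ∃ k : ℕ, orderOf g = 2 ^ k} : Subgroup G), IsConj x x⁻¹ ∧ 2 ∣ cs x) ∧
    (∃ x : (closure {g : G | ∃ k : ℕ, orderOf g = 2 ^ k} : Subgroup G), IsConj x x⁻¹ ∧
      cs x ≠ 1 ∧ Odd (cs x)) ∧
    ∀ x : (closure {g : G | ∃ k : ℕ, orderOf g = 2 ^ k} : Subgroup G), IsConj x x⁻¹ →
      Odd (cs x) ∨ ∃ j : ℕ, cs x = 2 ^ j := by
  haveI := D.closure_two_normal
  set K := closure {g : G | ∃ k : ℕ, orderOf g = 2 ^ k} with hK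
  have hdvd : ∀ x : K, cs x ∣ cs (x : G) := by
    intro x
    refine dvd_trans ?_ (relIndex_dvd_index_of_normal K (centralizer ({(x : G)} : Set G)))
    refine index_dvd_of_le fun k hk => ?_
    rw [mem_subgroupOf, mem_cent] at hk
    exact mem_cent.mpr (Subtype.ext hk)
  have hodd : ∀ x : K, PiNum π₂ (cs (x : G)) → Odd (cs x) := fun x hx =>
    Nat.not_even_iff_odd.mp fun he => D.not_two_mem (hx 2 Nat.prime_two (he.two_dvd.trans (hdvd x)))
  obtain ⟨u, hu⟩ := hex
  obtain ⟨g, ⟨j, hj⟩, hg⟩ := FG38.exists_two_element_inverting hu.real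
  have hgK : g ∈ K := subset_closure ⟨j, hj⟩
  have huK : u ∈ K := by
    refine mem_of_sq_mem_of_odd hu.odd ?_
    have h1 : g * (u * g⁻¹ * u⁻¹) ∈ K :=
      mul_mem hgK (D.closure_two_normal.conj_mem _ (inv_mem hgK) u)
    rw [show g * (u * g⁻¹ * u⁻¹) = (g * u * g⁻¹) * u⁻¹ by group, hg, ← mul_inv_rev] at h1
    exact inv_mem_iff.mp h1
  have hy1 : y ≠ 1 := fun e => D.not_commute hu (e ▸ Commute.one_right u)
  have hyK : y ∈ K := subset_closure ⟨1, by
    haveI : Fact (Nat.Prime 2) := ⟨Nat.prime_two⟩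
    rw [pow_one]; exact orderOf_eq_prime (by rw [pow_two]; exact D.y_sq) hy1⟩
  refine ⟨⟨⟨u, huK⟩, isConj_iff.mpr ⟨⟨g, hgK⟩, Subtype.ext hg⟩, ?_⟩,
    ⟨⟨y, hyK⟩, real_of_sq (Subtype.ext D.y_sq), fun e => ?_, hodd _ D.pi⟩, fun x hx => ?_⟩
  · exact two_dvd_cs (isConj_iff.mpr ⟨⟨g, hgK⟩, Subtype.ext hg⟩)
      fun e => mul_self_ne_one_of_odd hu.odd hu.ne (congrArg Subtype.val e)
  · rw [cs, index_eq_one] at e
    have h1 : (⟨u, huK⟩ : K) ∈ centralizer ({(⟨y, hyK⟩ : K)} : Set K) := by rw [e]; trivial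
    have h2 : (⟨u, huK⟩ : K) * ⟨y, hyK⟩ = ⟨y, hyK⟩ * ⟨u, huK⟩ := mem_cent.mp h1
    exact D.not_commute hu (congrArg Subtype.val h2)
  · rcases D.split.pure (K.subtype.map_isConj hx : IsConj (x : G) (x : G)⁻¹) with h | h
    swap
    · exact Or.inl (hodd x h)
    right
    refine ⟨(cs x).primeFactorsList.length, Nat.eq_prime_pow_of_unique_prime_dvd (cs_ne_zero x) ?_⟩
    intro d hd hdd
    by_contra hne
    exact D.not_dvd_closure hd hne (h d hd (hdd.trans (hdvd x)))
      (hdd.trans (index_dvd_card _))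

end Data

end Cfsg.Agent.RealGraph72
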