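import Cfsg.Agent.RealGraph72.LinSylow
import Cfsg.Agent.RealGraph72.Field
import Cfsg.Agent.Lib.Fitting.Minimal

/-!
The case in which there is a primitive prime divisor.
-/

set_option autoImplicit false

open Pointwise

namespace Cfsg.Agent.RealGraph72

open Subgroup

variable {W : Type*} [Group W] [Finite W] {X : Subgroup (MulAut W)}

/-- the hypotheses, with a primitive prime -/
structure Prim (X : Subgroup (MulAut W)) (a q : ℕ) : Prop where
  hyp : Hyp X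
  apos : 0 < a
  card : Nat.card W = 2 ^ (2 * a)
  qp : q.Prime
  qdvd : q ∣ 2 ^ (2 * a) - 1
  qprim : ∀ i, 0 < i → i < 2 * a → ¬ q ∣ 2 ^ i - 1

/-- the centralizer in `X` -/
def A (X : Subgroup (MulAut W)) (c : MulAut W) : Subgroup (MulAut W) :=
  X ⊓ centralizer ({c} : Set (MulAut W))

omit [Finite W] in
theorem mem_A {c b : MulAut W} : b ∈ A X c ↔ b ∈ X ∧ b * c = c * b := by
  rw [A, mem_inf, mem_cent]

omit [Finite W] in
theorem self_mem_A {c : MulAut W} (hc : c ∈ X) : c ∈ A X c := mem_A.mpr ⟨hc, rfl⟩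

theorem RP.conj {r : ℕ} {c : MulAut W} (hc : RP X r c) {k : MulAut W} (hk : k ∈ X) :
    RP X r (k * c * k⁻¹) := by
  obtain ⟨g, hg, he⟩ := hc.real
  refine ⟨mul_mem (mul_mem hk hc.mem) (inv_mem hk), hc.prime, hc.ne_two, ?_, k * g * k⁻¹,
    mul_mem (mul_mem hk hg) (inv_mem hk), ?_⟩
  · rw [← MulAut.conj_apply, MulEquiv.orderOf_eq, hc.order]
  · calc k * g * k⁻¹ * (k * c * k⁻¹) * (k * g * k⁻¹)⁻¹ = k * (g * c * g⁻¹) * k⁻¹ := by group
      _ = (k * c * k⁻¹)⁻¹ := by rw [he]; group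

namespace Prim

variable {a q : ℕ} (P : Prim X a q)

include P

theorem nontrivial : Nontrivial W := Finite.one_lt_card_iff_nontrivial.mp (by
  rw [P.card]; exact Nat.one_lt_pow (by have := P.apos; omega) (by norm_num))

theorem q_dvd_add : q ∣ 2 ^ a + 1 := by
  have h : 2 ^ (2 * a) - 1 = (2 ^ a + 1) * (2 ^ a - 1) := by
    rw [← Nat.sq_sub_sq, ← pow_mul, one_pow, mul_comm a 2]
  exact ((Nat.Prime.dvd_mul P.qp).mp (h ▸ P.qdvd)).resolve_right
    (P.qprim a P.apos (by have := P.apos; omega))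

theorem q_ne_two : q ≠ 2 := by
  rintro rfl
  have h := P.q_dvd_add
  have h2 : 2 ∣ 2 ^ a := dvd_pow_self 2 (Nat.pos_iff_ne_zero.mp P.apos)
  omega

theorem card_sub {V : Subgroup W} : ∃ p ≤ 2 * a, Nat.card V = 2 ^ p := by
  obtain ⟨p, hp, h⟩ := (Nat.dvd_prime_pow Nat.prime_two).mp (P.card ▸ card_subgroup_dvd_card V)
  exact ⟨p, hp, h⟩

theorem irred {c : MulAut W} (hc : orderOf c = q) : Irred c := by
  haveI := Fact.mk P.qp
  have hfix : ∀ w, c w = w → w = 1 := by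
    obtain ⟨p, hp, hcard⟩ := P.card_sub (V := Fix c)
    have h := card_set_modEq hc (Set.univ : Set W) (fun _ _ => trivial)
    have he : {w : W | w ∈ (Set.univ : Set W) ∧ c w = w} = (Fix c : Set W) := by
      ext w; simp [mem_Fix]
    rw [he, Nat.card_univ, P.card, show Nat.card ((Fix c : Set W)) = 2 ^ p from hcard] at h
    have hd := (Nat.modEq_iff_dvd' (Nat.pow_le_pow_right (by norm_num) hp)).mp h.symm
    rw [show 2 ^ (2 * a) - 2 ^ p = 2 ^ p * (2 ^ (2 * a - p) - 1) by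
      rw [Nat.mul_sub, mul_one, ← pow_add, Nat.add_sub_cancel' hp]] at hd
    have hd' := (P.qp.dvd_mul.mp hd).resolve_left fun e =>
      P.q_ne_two ((Nat.prime_dvd_prime_iff_eq P.qp Nat.prime_two).mp (P.qp.dvd_of_dvd_pow e))
    rcases Nat.eq_zero_or_pos p with rfl | hp0
    · intro w hw
      exact mem_bot.mp (eq_bot_of_card_eq (Fix c) hcard ▸ mem_Fix.mpr hw)
    · have hpa : p = 2 * a := by
        by_contra hne
        exact P.qprim (2 * a - p) (by omega) (by omega) hd'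
      have htop : Fix c = ⊤ := eq_top_of_card_eq _ (by rw [hcard, hpa, P.card])
      have hc1 : c = 1 := MulEquiv.ext fun w => mem_Fix.mp (htop ▸ mem_top w)
      rw [hc1, orderOf_one] at hc
      exact absurd hc.symm P.qp.ne_one
  intro V hV
  obtain ⟨p, hp, hcard⟩ := P.card_sub (V := V)
  have h := card_set_modEq hc (V : Set W) hV
  have he : {w : W | w ∈ (V : Set W) ∧ c w = w} = {1} := by
    ext w
    constructor
    · exact fun h => hfix w h.2
    · rintro rfl; exact ⟨V.one_mem, map_one c⟩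
  rw [he, Nat.card_coe_set_eq {(1 : W)}, Set.ncard_singleton,
    show Nat.card ((V : Set W)) = 2 ^ p from hcard] at h
  have hd := (Nat.modEq_iff_dvd' (Nat.one_le_pow _ _ (by norm_num))).mp h.symm
  rcases Nat.eq_zero_or_pos p with rfl | hp0
  · exact Or.inl (eq_bot_of_card_eq V hcard)
  · refine Or.inr (eq_top_of_card_eq V ?_)
    have hpa : p = 2 * a := by
      by_contra hne
      exact P.qprim p hp0 (by omega) hd
    rw [hcard, hpa, P.card]

theorem commute_of_mem_A {c b b' : MulAut W} (hc : orderOf c = q) (hb : b ∈ A X c)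
    (hb' : b' ∈ A X c) : Commute b b' :=
  haveI := P.nontrivial
  commute_of_commute P.hyp.sq (P.irred hc) (mem_A.mp hb).2 (mem_A.mp hb').2

theorem isCyclic_A {c : MulAut W} (hc : orderOf c = q) : IsCyclic (A X c) :=
  haveI := P.nontrivial
  haveI := isCyclic_centralizer P.hyp.sq (P.irred hc)
  isCyclic_of_injective (inclusion (inf_le_right : A X c ≤ centralizer ({c} : Set (MulAut W))))
    (inclusion_injective _)

theorem fpf_A {c b : MulAut W} (hc : orderOf c = q) (hb : b ∈ A X c) {w : W} (hw : w ≠ 1)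
    (h : b w = w) : b = 1 :=
  by_contra fun hb1 => hw (fpf_of_commute (P.irred hc) (mem_A.mp hb).2 hb1 h)

theorem eq_of_apply_eq {c b b' : MulAut W} (hc : orderOf c = q) (hb : b ∈ A X c) (hb' : b' ∈ A X c)
    {w : W} (hw : w ≠ 1) (h : b w = b' w) : b = b' := by
  have := P.fpf_A hc (mul_mem (inv_mem hb') hb) hw
    (by rw [mul_apply', h]; exact MulEquiv.symm_apply_apply b' w)
  exact (inv_mul_eq_one.mp this).symm

theorem exists_apply {c : MulAut W} (hc : RP X q c) {w : W} (hw : w ≠ 1) {g : MulAut W}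
    (hg : g ∈ X) : ∃ b ∈ A X c, b w = g w := by
  obtain ⟨b, hb, hbc, e⟩ := P.hyp.trans hc hw hg
  exact ⟨b, mem_A.mpr ⟨hb, hbc⟩, e⟩

theorem card_orbit {c : MulAut W} (hc : RP X q c) {L : Subgroup (MulAut W)}
    {w : W} (hw : w ≠ 1) (hL : ∀ g ∈ L, ∃ b ∈ L ⊓ A X c, b w = g w) :
    (st L w).relIndex L = Nat.card (L ⊓ A X c : Subgroup (MulAut W)) := by
  rw [relIndex_st]
  refine (Nat.card_congr (Equiv.ofBijective
    (fun b : (L ⊓ A X c : Subgroup (MulAut W)) => (⟨(b : MulAut W) w, b.1, b.2.1, rfl⟩ : orbitSet L w))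
    ⟨fun b b' e => Subtype.ext (P.eq_of_apply_eq hc.order b.2.2 b'.2.2 hw (congrArg Subtype.val e)),
      ?_⟩)).symm
  rintro ⟨v, g, hg, rfl⟩
  obtain ⟨b, hb, e⟩ := hL g hg
  exact ⟨⟨b, hb⟩, Subtype.ext e⟩

theorem card_A {c : MulAut W} (hc : RP X q c) {w : W} (hw : w ≠ 1) :
    (st X w).relIndex X = Nat.card (A X c) := by
  have h : A X c = X ⊓ A X c := by rw [A, ← inf_assoc, inf_idem]
  rw [P.card_orbit hc hw fun g hg => ?_, ← h]
  obtain ⟨b, hb, e⟩ := P.exists_apply hc hw hg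
  exact ⟨b, ⟨(mem_A.mp hb).1, hb⟩, e⟩

theorem card_A_eq {c c' : MulAut W} (hc : RP X q c) (hc' : RP X q c') :
    Nat.card (A X c) = Nat.card (A X c') := by
  haveI := P.nontrivial
  obtain ⟨w, hw⟩ := exists_ne (1 : W)
  rw [← P.card_A hc hw, ← P.card_A hc' hw]

theorem dvd_A {c : MulAut W} (hc : RP X q c) {r : ℕ} {y : MulAut W} (hy : RP X r y) :
    r ∣ Nat.card (A X c) := by
  haveI := P.nontrivial
  obtain ⟨w, hw⟩ := exists_ne (1 : W)
  rw [← P.card_A hc hw]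
  exact P.hyp.dvd_orbit hy hw

theorem odd_A {c : MulAut W} (hc : RP X q c) : Odd (Nat.card (A X c)) := by
  haveI := P.nontrivial
  obtain ⟨w, hw⟩ := exists_ne (1 : W)
  rw [← P.card_A hc hw]
  exact P.hyp.odd w hw

theorem not_dvd_relIndex {c : MulAut W} (hc : RP X q c) {H : Subgroup (MulAut W)}
    (hAH : A X c ≤ H) (hHX : H ≤ X) {s : ℕ} (hs : s.Prime) (hsA : s ∣ Nat.card (A X c)) :
    ¬ s ∣ (A X c).relIndex H := by
  intro h
  haveI := P.nontrivial
  obtain ⟨w, hw⟩ := exists_ne (1 : W)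
  have h1 : s ∣ (A X c).relIndex X := relIndex_mul_relIndex _ _ _ hAH hHX ▸ h.mul_right _
  have h2 := P.hyp.cop q c hc w hw
  rw [P.card_A hc hw, ← inf_relIndex_left] at h2
  exact hs.not_dvd_one (h2 ▸ Nat.dvd_gcd h1 hsA)

theorem eq_of_mem {c c' : MulAut W} (hc : RP X q c) (hc' : RP X q c') (h : c' ∈ A X c) :
    A X c' = A X c := by
  refine (eq_of_le_of_card_ge (fun b hb => ?_) (P.card_A_eq hc' hc).le).symm
  exact mem_A.mpr ⟨(mem_A.mp hb).1, (P.commute_of_mem_A hc.order hb h).eq⟩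

theorem conj_mem_A {c b k : MulAut W} (hc : RP X q c) (hk : k ∈ X) (hkc : k * c * k⁻¹ ∈ A X c)
    (hb : b ∈ A X c) : k * b * k⁻¹ ∈ A X c := by
  rw [← P.eq_of_mem hc (hc.conj hk) hkc, mem_A]
  obtain ⟨hbX, hbc⟩ := mem_A.mp hb
  refine ⟨mul_mem (mul_mem hk hbX) (inv_mem hk), ?_⟩
  calc k * b * k⁻¹ * (k * c * k⁻¹) = k * (b * c) * k⁻¹ := by group
    _ = k * c * k⁻¹ * (k * b * k⁻¹) := by rw [hbc]; group

theorem mem_zpowers_A {c d : MulAut W} (hcX : c ∈ X) (hc : orderOf c = q) (hd : d ∈ A X c)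
    (hd' : orderOf d = q) : d ∈ zpowers c := by
  haveI := P.isCyclic_A hc
  exact mem_zpowers_of_isCyclic (A X c) (self_mem_A hcX) hd (by rw [hd', hc])

theorem two_elt_A {c u : MulAut W} (hc : orderOf c = q) (hu : u ∈ A X c) {n : ℕ}
    (hn : orderOf u ∣ 2 ^ n) : u = 1 := by
  haveI : Fact (Nat.Prime 2) := ⟨Nat.prime_two⟩
  haveI := P.nontrivial
  obtain ⟨k, -, hk⟩ := (Nat.dvd_prime_pow Nat.prime_two).mp hn
  have hp : IsPGroup 2 (zpowers u) := IsPGroup.of_card (n := k) (by rw [Nat.card_zpowers, hk])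
  obtain ⟨w, hw, hw1⟩ := (Subgroup.bot_or_exists_ne_one _).resolve_left
    (FixAll_ne_bot P.hyp.sq hp)
  exact P.fpf_A hc hu hw1 (hw u (mem_zpowers u))

theorem mem_conj {c : MulAut W} (hc : RP X q c) {H : Subgroup (MulAut W)} (hAH : A X c ≤ H)
    (hHX : H ≤ X) {s : ℕ} (hs : s.Prime) (hsA : s ∣ Nat.card (A X c)) {t : MulAut W} (ht : t ∈ H)
    (hto : orderOf t = s) : ∃ k ∈ H, k⁻¹ * t * k ∈ A X c := by
  haveI := Fact.mk hs
  obtain ⟨g, hg⟩ := exists_conj_mem_of_not_dvd_index ((A X c).subgroupOf H)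
    (P.not_dvd_relIndex hc hAH hHX hs hsA) ⟨t, ht⟩ ⟨1, by rw [Subgroup.orderOf_mk, hto, pow_one]⟩
  exact ⟨g.1, g.2, hg⟩

theorem q_dvd_A {c : MulAut W} (hc : RP X q c) : q ∣ Nat.card (A X c) := P.dvd_A hc hc

theorem uniq {c c' : MulAut W} (hc : RP X q c) (hc' : RP X q c') {H : Subgroup (MulAut W)}
    (hHX : H ≤ X) (hA' : A X c' ≤ H) (hA : A X c ≤ H) (hn : ∀ k ∈ H, k * c' * k⁻¹ ∈ A X c') :
    A X c = A X c' := by
  obtain ⟨k, hk, hkA⟩ := P.mem_conj hc' hA' hHX P.qp (P.q_dvd_A hc') (hA (self_mem_A hc.mem))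
    hc.order
  have h := P.conj_mem_A hc' (hHX hk) (hn k hk) hkA
  rw [show k * (k⁻¹ * c * k) * k⁻¹ = c by group] at h
  exact P.eq_of_mem hc' hc h

theorem exists_invol {c y g : MulAut W} (hcX : c ∈ X) (hc : orderOf c = q) {H : Subgroup (MulAut W)} (hHX : H ≤ X)
    (hg : g ∈ H) (hgc : g * c * g⁻¹ ∈ A X c) (hy : y ∈ A X c) (hy2 : y * y ≠ 1)
    (hgy : g * y * g⁻¹ = y⁻¹) :
    ∃ h ∈ H, orderOf h = 2 ∧ h * c * h⁻¹ = c⁻¹ := by
  classical
  obtain ⟨n, m, hm, hnm⟩ := Nat.exists_eq_pow_mul_and_not_dvd (orderOf_pos g).ne' 2 (by norm_num)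
  obtain ⟨t, ht⟩ : Odd m := Nat.not_even_iff_odd.mp fun he => hm he.two_dvd
  set s := g ^ m with hs
  have hso : orderOf s = 2 ^ n := by
    rw [hs, orderOf_pow, hnm, Nat.gcd_mul_left_left, Nat.mul_div_cancel _ (by omega)]
  have hgN : g ∈ normalizer ((zpowers c : Subgroup (MulAut W)) : Set (MulAut W)) := by
    refine mem_normalizer_fintype fun d hd => ?_
    obtain ⟨i, rfl⟩ := hd
    simp only
    rw [← conj_zpow]
    exact zpow_mem (P.mem_zpowers_A hcX hc hgc (by rw [← MulAut.conj_apply, MulEquiv.orderOf_eq, hc])) i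
  have hsy : s * y * s⁻¹ = y⁻¹ := by
    have h2 : Commute (g ^ 2) y := by
      refine mul_inv_eq_iff_eq_mul.mp ?_
      calc g ^ 2 * y * (g ^ 2)⁻¹ = g * (g * y * g⁻¹) * g⁻¹ := by rw [pow_two]; group
        _ = y := by rw [hgy]; exact conj_inv_of_inverts hgy
    calc s * y * s⁻¹ = g * ((g ^ 2) ^ t * y * ((g ^ 2) ^ t)⁻¹) * g⁻¹ := by
          rw [hs, ht, pow_succ', pow_mul]; group
      _ = y⁻¹ := by rw [(h2.pow_left t).eq, mul_inv_cancel_right, hgy]
  have hsC : ¬ s * c = c * s := by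
    intro h
    have hsA : s ∈ A X c := mem_A.mpr ⟨pow_mem (hHX hg) m, h⟩
    have := P.commute_of_mem_A hc hsA hy
    rw [this.eq, mul_inv_cancel_right] at hsy
    exact hy2 (eq_inv_iff_mul_eq_one.mp hsy)
  have hex : ∃ j, s ^ (2 ^ j) * c = c * s ^ (2 ^ j) :=
    ⟨n, by rw [← hso, pow_orderOf_eq_one, one_mul, mul_one]⟩
  set j := Nat.find hex with hj
  have hjspec := Nat.find_spec hex
  have hj0 : j ≠ 0 := by
    intro e
    rw [← hj, e, pow_zero, pow_one] at hjspec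
    exact hsC hjspec
  set h := s ^ (2 ^ (j - 1)) with hh
  have hhC : ¬ h * c = c * h := Nat.find_min hex (by omega)
  have hh2 : h ^ 2 = 1 := by
    rw [hh, ← pow_mul, ← pow_succ, Nat.sub_one_add_one hj0]
    set u := s ^ 2 ^ j
    have huA : u ∈ A X c := mem_A.mpr ⟨pow_mem (pow_mem (hHX hg) m) _, hjspec⟩
    have h1 : orderOf u ∣ 2 ^ n := hso ▸ orderOf_pow_dvd _
    exact P.two_elt_A hc huA h1
  haveI : Fact (Nat.Prime 2) := ⟨Nat.prime_two⟩
  refine ⟨h, pow_mem (pow_mem hg m) _, orderOf_eq_prime hh2 fun e => hhC (by rw [e, one_mul, mul_one]),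
    ?_⟩
  have hhN : h ∈ normalizer ((zpowers c : Subgroup (MulAut W)) : Set (MulAut W)) :=
    pow_mem (pow_mem hgN m) _
  rcases eq_or_eq_inv_of_invol (by rw [← pow_two]; exact hh2) (hc.symm ▸ P.qp)
    ((mem_normalizer_iff.mp hhN c).mp (mem_zpowers c)) with e | e
  · exact absurd (mul_inv_eq_iff_eq_mul.mp e) hhC
  · exact e

theorem frob {c b h : MulAut W} (hc : RP X q c) (hh : orderOf h = 2) (hhc : h * c * h⁻¹ = c⁻¹)
    (hb : b ∈ A X c) : h * b * h⁻¹ = b ^ (2 ^ a) := by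
  haveI := P.nontrivial
  refine frobenius P.hyp.sq (P.irred hc.order) (Involution.mul_self_of_orderOf hh) ?_ (mem_A.mp hb).2
  rw [hhc]
  refine inv_eq_of_mul_eq_one_right ?_
  rw [← pow_succ']
  obtain ⟨k, hk⟩ := P.q_dvd_add
  rw [hk, ← hc.order, pow_mul, pow_orderOf_eq_one, one_pow]

theorem dvd_add_of_inverted {c h y : MulAut W} {r : ℕ} (hc : RP X q c) (hh : orderOf h = 2)
    (hhc : h * c * h⁻¹ = c⁻¹) (hy : RP X r y) (hyA : y ∈ A X c) (hhy : h * y * h⁻¹ = y⁻¹) :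
    r ∣ 2 ^ a + 1 := by
  have := P.frob hc hh hhc hyA
  rw [hhy] at this
  rw [← hy.order]
  exact orderOf_dvd_of_pow_eq_one (by rw [pow_succ, ← this, inv_mul_cancel])

theorem not_both {r : ℕ} (hr : r.Prime) (hr2 : r ≠ 2) (h1 : r ∣ 2 ^ a + 1) (h2 : r ∣ 2 ^ a - 1) :
    False := by
  have h := Nat.dvd_sub h1 h2
  have : 1 ≤ 2 ^ a := Nat.one_le_pow _ _ (by norm_num)
  rw [show 2 ^ a + 1 - (2 ^ a - 1) = 2 by omega] at h
  exact hr2 ((Nat.prime_dvd_prime_iff_eq hr Nat.prime_two).mp h)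

theorem half {f : MulAut W} (hf : f ∈ X) (hf2 : orderOf f = 2) : Nat.card (Fix f) = 2 ^ a := by
  have h := P.hyp.half hf hf2
  rw [P.card, two_mul, pow_add] at h
  exact Nat.mul_self_inj.mp h

end Prim

end Cfsg.Agent.RealGraph72
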