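import Cfsg.Agent.RealGraph72.LinSylow

/-!
The case of a group of order 64.
-/

set_option autoImplicit false

open Pointwise

namespace Cfsg.Agent.RealGraph72

open Subgroup

variable {W : Type*} [Group W] [Finite W] {X : Subgroup (MulAut W)}

namespace Six

variable (hX : Hyp X) (h64 : Nat.card W = 2 ^ 6)

include hX h64

theorem half {f : MulAut W} (hf : f ∈ X) (hf2 : orderOf f = 2) : Nat.card (Fix f) = 2 ^ 3 := by
  have h := hX.half hf hf2
  rw [h64, show 2 ^ 6 = 2 ^ 3 * 2 ^ 3 by norm_num] at h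
  exact Nat.mul_self_inj.mp h

theorem ne_seven {y : MulAut W} (hy : RP X 7 y) : False := by
  have hc : ∀ a b : W, a * b = b * a := comm_of_sq hX.sq
  have hinv : ∀ a : W, a⁻¹ = a := fun a => inv_eq_of_mul_eq_one_right (hX.sq a)
  letI : CommGroup W := { (inferInstance : Group W) with mul_comm := hc }
  have h7 : ∀ v, y (y (y (y (y (y (y v)))))) = v := by
    intro v
    have : (y ^ 7) v = v := by rw [← hy.order, pow_orderOf_eq_one]; rfl
    simpa [pow_succ, mul_apply'] using this
  obtain ⟨g, hg, hgy⟩ := hy.real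
  have hgv : ∀ v, g (y v) = y⁻¹ (g v) := by
    intro v
    rw [← mul_apply', ← mul_apply', ← hgy]
    simp
  have hy1 : ∀ v, y (y⁻¹ v) = v := inv_apply' y
  -- the two cubic factors
  let P1 : W →* W :=
    { toFun := fun v => y (y (y v)) * y v * v
      map_one' := by simp
      map_mul' := fun a b => by simp only [map_mul]; ac_rfl }
  let P2 : W →* W :=
    { toFun := fun v => y (y (y v)) * y (y v) * v
      map_one' := by simp
      map_mul' := fun a b => by simp only [map_mul]; ac_rfl }
  have hprod : ∀ v, P1 (P2 v) = 1 := by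
    intro v
    refine hX.fpf 7 y hy _ ?_
    show y (y (y (y (P2 v))) * y (P2 v) * P2 v) = y (y (y (P2 v))) * y (P2 v) * P2 v
    simp only [P2, MonoidHom.coe_mk, OneHom.coe_mk, map_mul, h7]
    have e : ∀ a b : W, a * (a * b) = b := fun a b => by rw [← mul_assoc, hX.sq, one_mul]
    simp only [mul_comm, mul_left_comm, e, hX.sq, mul_one]
  -- each kernel is invariant
  have hinvker : ∀ (p : W →* W), (∀ c : MulAut W, c * y = y * c → ∀ v, p (c v) = c (p v)) →
      ∀ h ∈ X, ∀ v ∈ p.ker, h v ∈ p.ker := by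
    intro p hp h hh v hv
    rw [MonoidHom.mem_ker] at hv ⊢
    by_cases hv1 : v = 1
    · rw [hv1, map_one, map_one]
    obtain ⟨c, -, hcy, hcv⟩ := hX.trans hy hv1 hh
    rw [← hcv, hp c hcy, hv, map_one]
  have hcy : ∀ c : MulAut W, c * y = y * c → ∀ v, y (c v) = c (y v) := fun c hc v => by
    rw [← mul_apply', ← hc, mul_apply']
  have hboth : (∀ v, P1 v = 1) ∨ ∀ v, P2 v = 1 := by
    rcases hX.irr P1.ker (hinvker P1 fun c hc v => by
      simp only [P1, MonoidHom.coe_mk, OneHom.coe_mk, map_mul, hcy c hc]) with h | h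
    · exact Or.inr fun v => mem_bot.mp (h ▸ (MonoidHom.mem_ker.mpr (hprod v)))
    · exact Or.inl fun v => MonoidHom.mem_ker.mp (h ▸ mem_top v)
  have hgy' : ∀ v, y (y (g (y (y v)))) = g v := fun v => by simp only [hgv, hy1]
  -- each relation gives the other by inverting `y`
  have htr : ∀ v, g (y (y (y v))) = y (y (y (y (g v)))) := by
    intro v
    apply y.injective; apply y.injective; apply y.injective
    rw [h7, hgv, hgv, hgv, hy1, hy1, hy1]
  have hu : ∀ v, g (y v) = y (y (y (y (y (y (g v)))))) := by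
    intro v
    apply y.injective
    rw [h7, hgv, hy1]
  have hsecond : ∀ u, y (y u) = y u := by
    intro u
    obtain ⟨v, rfl⟩ : ∃ v, g v = u := ⟨g⁻¹ u, inv_apply' g u⟩
    have e : ∀ a b : W, a * (a * b) = b := fun a b => by rw [← mul_assoc, hX.sq, one_mul]
    have key : y (y (g v)) * y (g v) = 1 := by
      rcases hboth with h | h
      · have h1 := congrArg (fun z => y (y (y (g z)))) (h v)
        have h2 := h (g v)
        simp only [P1, MonoidHom.coe_mk, OneHom.coe_mk, map_mul, map_one, htr, hu, h7] at h1 h2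
        calc y (y (g v)) * y (g v) = (g v * y (y (g v)) * y (y (y (g v))))
              * (y (y (y (g v))) * y (g v) * g v) := by
              simp only [mul_assoc, mul_comm, mul_left_comm, e, hX.sq, mul_one, one_mul]
          _ = 1 := by rw [h2, mul_one]; simpa only [mul_assoc, mul_comm, mul_left_comm] using h1
      · have h1 := congrArg (fun z => y (y (y (g z)))) (h v)
        have h2 := h (g v)
        simp only [P2, MonoidHom.coe_mk, OneHom.coe_mk, map_mul, map_one, htr,
          show ∀ v, g (y (y v)) = y (y (y (y (y (g v))))) from fun v => by simp only [hu, h7],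
          h7] at h1 h2
        calc y (y (g v)) * y (g v) = (g v * y (g v) * y (y (y (g v))))
              * (y (y (y (g v))) * y (y (g v)) * g v) := by
              simp only [mul_assoc, mul_comm, mul_left_comm, e, hX.sq, mul_one, one_mul]
          _ = 1 := by rw [h2, mul_one]; simpa only [mul_assoc, mul_comm, mul_left_comm] using h1
    exact (eq_inv_of_mul_eq_one_left key).trans (hinv _)
  haveI : Nontrivial W := Finite.one_lt_card_iff_nontrivial.mp (by rw [h64]; norm_num)
  obtain ⟨w, hw⟩ := exists_ne (1 : W)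
  exact hw (hX.fpf 7 y hy w (y.injective (hsecond w)))

theorem eq_three {r : ℕ} {y : MulAut W} (hy : RP X r y) : r = 3 := by
  have h := hX.dvd_sub_one hy (V := ⊤) (fun v _ => mem_top _) (n := 2 ^ 6) (by rw [card_top, h64])
  have h' : r ∣ 3 * 3 * 7 := by norm_num at h ⊢; exact h
  rcases hy.prime.dvd_mul.mp h' with e | e
  · rcases hy.prime.dvd_mul.mp e with e | e <;>
      exact (Nat.prime_dvd_prime_iff_eq hy.prime Nat.prime_three).mp e
  · have := (Nat.prime_dvd_prime_iff_eq hy.prime (by norm_num)).mp e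
    exact (ne_seven hX h64 (this ▸ hy)).elim

theorem not_stabilizes {r : ℕ} {y : MulAut W} (hy : RP X r y) {V : Subgroup W}
    (hV : Nat.card V = 2 ^ 3) (hst : ∀ v ∈ V, y v ∈ V) : False := by
  have h := hX.dvd_sub_one hy hst hV
  rw [eq_three hX h64 hy] at h
  norm_num at h

theorem sylow_eq {T T' : Sylow 2 X} {j : X} (hj : j ∈ T) (hj' : j ∈ T') (hj2 : orderOf j = 2) :
    T = T' := by
  classical
  haveI : Fact (Nat.Prime 2) := ⟨Nat.prime_two⟩
  by_contra hTT
  obtain ⟨⟨A, B⟩, hAB, hmax⟩ := Set.exists_max_image {p : Sylow 2 X × Sylow 2 X | p.1 ≠ p.2}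
    (fun p => Nat.card ((p.1 : Subgroup X) ⊓ (p.2 : Subgroup X) : Subgroup X)) (Set.toFinite _)
    ⟨(T, T'), hTT⟩
  set D : Subgroup X := (A : Subgroup X) ⊓ (B : Subgroup X) with hD
  have hD1 : 1 < Nat.card D := by
    refine lt_of_lt_of_le ?_ (hmax (T, T') hTT)
    have h1 : 1 < Nat.card (zpowers j) := by rw [Nat.card_zpowers, hj2]; norm_num
    exact lt_of_lt_of_le h1 (card_le_of_le (zpowers_le.mpr ⟨hj, hj'⟩))
  have hDA : D < (A : Subgroup X) := lt_of_le_of_ne inf_le_left fun e => hAB
    (Sylow.ext (A.3 B.isPGroup' (e ▸ inf_le_right)).symm)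
  have hDB : D < (B : Subgroup X) := lt_of_le_of_ne inf_le_right fun e => hAB
    (Sylow.ext (B.3 A.isPGroup' (e ▸ inf_le_left)))
  have hgrow : ∀ A : Sylow 2 X, D < (A : Subgroup X) →
      D < (A : Subgroup X) ⊓ normalizer (D : Set X) := by
    intro A hA
    refine lt_of_le_of_ne (le_inf hA.le le_normalizer) fun e => ?_
    haveI : Group.IsNilpotent (A : Subgroup X) := A.isPGroup'.isNilpotent
    have h1 : D.subgroupOf (A : Subgroup X) < ⊤ := lt_top_iff_ne_top.mpr fun e =>
      hA.not_ge (subgroupOf_eq_top.mp e)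
    refine (normalizerCondition_of_isNilpotent _ h1).ne (le_antisymm le_normalizer ?_)
    rw [← subgroupOf_normalizer_eq hA.le]
    intro x hx
    rw [mem_subgroupOf] at hx ⊢
    rw [e]
    exact ⟨x.2, hx⟩
  set L : Subgroup (MulAut W) := (normalizer (D : Set X)).map X.subtype with hL
  have hLX : L ≤ X := map_subtype_le _
  obtain ⟨r, y, hyL⟩ : ∃ r y, RP L r y := by
    by_contra! hno
    set N := normalizer (D : Set X)
    have hNcl : ∀ P : Sylow 2 N, (P : Subgroup N).Normal := by
      intro P
      set e : N ≃* L := N.equivMapOfInjective X.subtype X.subtype_injective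
      have h1 := closed_of_no_RP L hno (P.mapSurjective (f := e.toMonoidHom) e.surjective)
      change ((P : Subgroup N).map e.toMonoidHom).Normal at h1
      have h2 := h1.comap e.toMonoidHom
      rwa [comap_map_eq_self_of_injective e.injective] at h2
    obtain ⟨P⟩ := (inferInstance : Nonempty (Sylow 2 N))
    haveI := Sylow.unique_of_normal P (hNcl P)
    obtain ⟨S, hS⟩ := (P.isPGroup'.map N.subtype).exists_le_sylow
    have hle : ∀ A : Sylow 2 X, (A : Subgroup X) ⊓ N ≤ (S : Subgroup X) := by
      intro A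
      have hp : IsPGroup 2 ((A : Subgroup X).subgroupOf N) :=
        A.isPGroup'.comap_of_injective N.subtype N.subtype_injective
      obtain ⟨R, hR⟩ := hp.exists_le_sylow
      intro x hx
      have : (⟨x, hx.2⟩ : N) ∈ P := by
        rw [Subsingleton.elim P R]; exact hR hx.1
      exact hS ⟨_, this, rfl⟩
    have hSeq : ∀ A : Sylow 2 X, D < (A : Subgroup X) → A = S := by
      intro A hA
      by_contra hne
      have h1 : Nat.card ((A : Subgroup X) ⊓ (S : Subgroup X) : Subgroup X) ≤ Nat.card D :=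
        hmax (A, S) hne
      exact (hgrow A hA).not_ge (le_trans (le_inf inf_le_left (hle A))
        (eq_of_le_of_card_ge (le_trans (hgrow A hA).le (le_inf inf_le_left (hle A))) h1).ge)
    exact hAB ((hSeq A hDA).trans (hSeq B hDB).symm)
  have hy : RP X r y := hyL.mono hLX
  have hr3 := eq_three hX h64 hy
  subst hr3
  obtain ⟨y', hy', rfl⟩ := hyL.mem
  have hy3 : y' * y' * y' = 1 := Subtype.ext (by
    have := pow_orderOf_eq_one (X.subtype y')
    rw [hy.order, pow_succ, pow_two] at this
    exact this)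
  have hnofix : ∀ f : X, orderOf f = 2 → ¬ Commute f y' := fun f hf hc =>
    not_stabilizes hX h64 hy (half hX h64 f.2 ((Subgroup.orderOf_coe f).trans hf))
      fun v hv => fix_mem_of_commute (hc.map X.subtype) hv
  have hDp : IsPGroup 2 D := A.isPGroup'.to_le inf_le_left
  haveI : Nontrivial D := Finite.one_lt_card_iff_nontrivial.mp hD1
  haveI := hDp.center_nontrivial
  obtain ⟨z, hz⟩ : ∃ z : X, z ∈ D ∧ orderOf z = 2 ∧ ∀ d ∈ D, Commute z d := by
    obtain ⟨e, he⟩ := IsPGroup.iff_card.mp (hDp.to_subgroup (center D))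
    have h2 : 2 ∣ Nat.card (center D) := by
      rw [he]
      refine dvd_pow_self 2 fun e0 => ?_
      rw [e0, pow_zero] at he
      exact absurd (Finite.one_lt_card (α := center D)) (by omega)
    obtain ⟨c, hc⟩ := exists_prime_orderOf_dvd_card' 2 h2
    refine ⟨c.1.1, c.1.2, ?_, fun d hd => ?_⟩
    · rw [Subgroup.orderOf_coe, Subgroup.orderOf_coe, hc]
    · exact congrArg Subtype.val (mem_center_iff.mp c.2 ⟨d, hd⟩).symm
  obtain ⟨hzD, hz2, hzc⟩ := hz
  have hyD : ∀ d ∈ D, y' * d * y'⁻¹ ∈ D := fun d hd => (mem_normalizer_iff.mp hy' d).mp hd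
  have hyD' : ∀ d ∈ D, y'⁻¹ * d * y' ∈ D := fun d hd => by
    simpa using (mem_normalizer_iff.mp (inv_mem hy') d).mp hd
  set z' := y' * z * y'⁻¹ with hz'
  set z'' := y' * z' * y'⁻¹ with hz''
  have ho : ∀ t : X, orderOf (y' * t * y'⁻¹) = orderOf t := fun t => by
    rw [← MulAut.conj_apply, MulEquiv.orderOf_eq]
  have hz'c : ∀ d ∈ D, Commute z' d := by
    intro d hd
    have := (hzc _ (hyD' d hd)).map (MulAut.conj y').toMonoidHom
    simp only [MulEquiv.coe_toMonoidHom, MulAut.conj_apply] at this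
    rwa [show y' * (y'⁻¹ * d * y') * y'⁻¹ = d by group] at this
  have hz''3 : y' * z'' * y'⁻¹ = z := by
    calc y' * z'' * y'⁻¹ = (y' * y' * y') * z * (y' * y' * y')⁻¹ := by rw [hz'', hz']; group
      _ = z := by rw [hy3]; group
  have hz'D : z' ∈ D := hyD z hzD
  have hz''D : z'' ∈ D := hyD z' hz'D
  -- the product of the three conjugates is trivial
  have hprod : z'' = z * z' := by
    have hfix : Commute (z * z' * z'') y' := by
      refine (mul_inv_eq_iff_eq_mul.mp ?_).symm
      calc y' * (z * z' * z'') * y'⁻¹ = z' * z'' * (y' * z'' * y'⁻¹) := by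
            rw [hz'', hz']; group
        _ = z * z' * z'' := by
            rw [hz''3, mul_assoc, ← (hzc z'' hz''D).eq, ← mul_assoc, ← (hzc z' hz'D).eq]
    have hs1 : z * z = 1 := Involution.mul_self_of_orderOf hz2
    have hs2 : z' * z' = 1 := Involution.mul_self_of_orderOf ((ho z).trans hz2)
    have hs3 : z'' * z'' = 1 := Involution.mul_self_of_orderOf ((ho z').trans ((ho z).trans hz2))
    have h1 : (z * z' * z'') ^ 2 = 1 := by
      rw [Commute.mul_pow (Commute.mul_left (hzc z'' hz''D) (hz'c z'' hz''D)),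
        (hzc z' hz'D).mul_pow, pow_two, pow_two, pow_two, hs1, hs2, hs3, one_mul, one_mul]
    have h2 : z * z' * z'' = 1 := by
      by_contra hne
      exact hnofix _ (orderOf_eq_prime h1 hne) hfix
    exact (inv_eq_of_mul_eq_one_right hs3).symm.trans (eq_inv_of_mul_eq_one_left h2).symm
  -- fixed spaces
  let F : X → Subgroup W := fun t => Fix (t : MulAut W)
  have hhalf : ∀ t : X, orderOf t = 2 → Nat.card (F t) = 2 ^ 3 := fun t ht =>
    half hX h64 t.2 ((Subgroup.orderOf_coe t).trans ht)
  have himg : ∀ t : X, img (y' : MulAut W) (F t) = F (y' * t * y'⁻¹) := fun t => img_Fix _ _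
  have hne : F z'' ≠ F z := by
    intro e
    have h1 : F z' = F z := by
      have := congrArg (img (y' : MulAut W)) e
      rw [himg, himg, hz''3] at this
      exact this.symm
    refine not_stabilizes hX h64 hy (hhalf z hz2) fun v hv => ?_
    show (y' : MulAut W) v ∈ F z
    rw [← h1, hz', ← himg]
    exact ⟨v, hv, rfl⟩
  set V0 : Subgroup W := FixAll (((D.map X.subtype : Subgroup (MulAut W)) : Set (MulAut W))) with hV0
  have hV0z : ∀ d ∈ D, V0 ≤ F d := fun d hd v hv => hv _ ⟨d, hd, rfl⟩
  have hV0y : ∀ v ∈ V0, (y' : MulAut W) v ∈ V0 := by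
    rintro v hv _ ⟨d, hd, rfl⟩
    have h1 : ((y'⁻¹ * d * y' : X) : MulAut W) v = v := hv _ ⟨_, hyD' d hd, rfl⟩
    conv_rhs => rw [← h1]
    show (d : MulAut W) ((y' : MulAut W) v) = (y' : MulAut W) (((y' : MulAut W)⁻¹ * d * y') v)
    rw [mul_apply', mul_apply', inv_apply']
  have h8 : Nat.card (F z) = 2 ^ 3 := hhalf z hz2
  have hV04 : Nat.card V0 = 4 := by
    haveI : Nontrivial W := Finite.one_lt_card_iff_nontrivial.mp (by rw [h64]; norm_num)
    have hb : V0 ≠ ⊥ := FixAll_ne_bot hX.sq (hDp.map _)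
    have h1 : Nat.card V0 ∣ 2 ^ 3 := h8 ▸ card_dvd_of_le (hV0z z hzD)
    obtain ⟨m, hm, hm'⟩ := (Nat.dvd_prime_pow Nat.prime_two).mp h1
    have h3 := hX.dvd_sub_one hy hV0y hm'
    rw [hm']
    interval_cases m
    · exact absurd (eq_bot_of_card_eq V0 (by rw [hm', pow_zero])) hb
    · norm_num at h3
    · norm_num
    · norm_num at h3
  have hinf : F z'' ⊓ F z = V0 := by
    refine (eq_of_le_of_card_ge (le_inf (hV0z _ hz''D) (hV0z z hzD)) ?_).symm
    have hlt : F z'' ⊓ F z < F z := lt_of_le_of_ne inf_le_right fun e => hne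
      (eq_of_le_of_card_ge (inf_eq_right.mp e) (by
        rw [h8, hhalf z'' ((ho z').trans ((ho z).trans hz2))])).symm
    obtain ⟨m, hm, hm'⟩ :=
      (Nat.dvd_prime_pow Nat.prime_two).mp (h8 ▸ card_dvd_of_le (inf_le_right : F z'' ⊓ F z ≤ F z))
    have : m ≠ 3 := by
      rintro rfl
      exact hlt.ne (eq_of_le_of_card_ge hlt.le (by rw [hm', h8]))
    rw [hm', hV04]
    interval_cases m <;> norm_num at *
  -- the preimage of `V0`
  have hc : ∀ a b : W, a * b = b * a := comm_of_sq hX.sq
  have hmem : ∀ t : X, orderOf t = 2 → ∀ v, v * (t : MulAut W) v ∈ F t := fun t ht v =>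
    mul_apply_mem_Fix hX.sq ((Subgroup.orderOf_coe t).trans ht) v
  let δ : W →* W :=
    { toFun := fun v => v * (z : MulAut W) v
      map_one' := by simp
      map_mul' := fun a b => by
        rw [map_mul, mul_assoc, ← mul_assoc b, hc b]
        simp only [mul_assoc] }
  have hker : δ.ker = F z := by
    ext v
    rw [MonoidHom.mem_ker]
    show v * (z : MulAut W) v = 1 ↔ (z : MulAut W) v = v
    constructor
    · intro h
      exact (inv_eq_of_mul_eq_one_right h).symm.trans (inv_eq_of_mul_eq_one_right (hX.sq v))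
    · intro h; rw [h, hX.sq]
  have hrange : δ.range = F z := by
    refine eq_of_le_of_card_ge ?_ ?_
    · rintro _ ⟨v, rfl⟩; exact hmem z hz2 v
    · have h := card_mul_index δ.ker
      rw [index_ker, hker, h8, h64] at h
      rw [h8]
      norm_num at h ⊢
      omega
  have hK : Nat.card (V0.comap δ) = 2 ^ 5 := by
    have h := card_mul_index (V0.comap δ)
    rw [index_comap, hrange, h64] at h
    have h' := card_mul_index (V0.subgroupOf (F z))
    rw [Nat.card_congr (subgroupOfEquivOfLe (hV0z z hzD)).toEquiv, hV04, h8] at h'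
    change 4 * V0.relIndex (F z) = _ at h'
    have h2 : V0.relIndex (F z) = 2 := by norm_num at h'; omega
    rw [h2] at h
    norm_num at h ⊢
    omega
  -- the preimage is invariant under `y'`
  have hstab : ∀ v ∈ V0.comap δ, (y' : MulAut W) v ∈ V0.comap δ := by
    intro v hv
    rw [mem_comap] at hv ⊢
    set u := (y' : MulAut W) v with hu
    have h1 : u * (z' : MulAut W) u ∈ V0 := by
      have h0 := hV0y _ hv
      show u * ((y' : MulAut W) * (z : MulAut W) * (y' : MulAut W)⁻¹) u ∈ V0
      rw [mul_apply', mul_apply', hu,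
        show ((y' : MulAut W)⁻¹) ((y' : MulAut W) v) = v from MulEquiv.symm_apply_apply _ _, ← map_mul]
      exact h0
    show u * (z : MulAut W) u ∈ V0
    rw [← hinf]
    refine ⟨?_, hmem z hz2 u⟩
    have h2 : u * (z'' : MulAut W) u
        = (u * (z : MulAut W) u) * (u * (z' : MulAut W) u) := by
      have e : (z' : MulAut W) u = u * (u * (z' : MulAut W) u) := by
        rw [← mul_assoc, hX.sq, one_mul]
      rw [hprod, Subgroup.coe_mul, mul_apply']
      conv_lhs => rw [e, map_mul, mem_Fix.mp (hV0z z hzD h1)]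
      rw [mul_assoc u ((z : MulAut W) u)]
    have h3 := hmem z'' ((ho z').trans ((ho z).trans hz2)) u
    rw [h2] at h3
    have := (F z'').mul_mem h3 ((hV0z _ hz''D) h1)
    rwa [mul_assoc (u * (z : MulAut W) u), hX.sq, mul_one] at this
  have h := hX.dvd_sub_one hy hstab hK
  norm_num at h

theorem isSolvable : Group.IsSolvable X := by
  haveI : Fact (Nat.Prime 2) := ⟨Nat.prime_two⟩
  by_cases hex : ∃ r y, RP X r y
  swap
  · exact hX.solvable_of_no_RP fun r y h => hex ⟨r, y, h⟩
  obtain ⟨r, x, hx⟩ := hex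
  obtain ⟨j, hj, hj2⟩ := hX.exists_invol hx
  have hno : NoHalf X 3 := fun r y f hr hr2 hy ho hf _ hfy V hV hst =>
    not_stabilizes hX h64 ⟨hy, hr, hr2, ho, f, hf, hfy⟩ hV hst
  have hsame : ∀ f ∈ X, ∀ g ∈ X, orderOf f = 2 → orderOf g = 2 → Commute f g → Fix f = Fix g := by
    intro f hf g hg hf2 hg2 hfg
    set f' : X := ⟨f, hf⟩
    set g' : X := ⟨g, hg⟩
    have hf2' : orderOf f' = 2 := (Subgroup.orderOf_mk f hf).trans hf2
    have hg2' : orderOf g' = 2 := (Subgroup.orderOf_mk g hg).trans hg2
    have hfg' : Commute f' g' := Subtype.ext hfg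
    obtain ⟨k, -, hk⟩ := (Nat.dvd_prime_pow Nat.prime_two).mp
      (orderOf_dvd_of_pow_eq_one (x := f' * g') (n := 2 ^ 1) (by
        rw [pow_one, hfg'.mul_pow, pow_two, pow_two, Involution.mul_self_of_orderOf hf2',
          Involution.mul_self_of_orderOf hg2', one_mul]))
    obtain ⟨S, hS⟩ := (isPGroup_two_closure_pair (Involution.mul_self_of_orderOf hf2')
      (Involution.mul_self_of_orderOf hg2') hk).exists_le_sylow
    refine (eq_of_le_of_card_ge ?_ (by rw [half hX h64 hf hf2, half hX h64 hg hg2])).symm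
    intro w hw
    by_cases hw1 : w = 1
    · rw [hw1]; exact one_mem _
    obtain ⟨T, hT, hT2, -⟩ := hX.exists_sylow hw1
    have hgT : g' ∈ T := hT2 g' hw ⟨1, by rw [hg2', pow_one]⟩
    have hTS : T = S := sylow_eq hX h64 hgT (hS (subset_closure (Or.inr rfl))) hg2'
    exact hT f' (hTS ▸ hS (subset_closure (Or.inl rfl)))
  refine isSolvable_of_involutions_eq hj hj2 (eq_of_commute hX.sq X 3
    (fun f hf hf2 => half hX h64 hf hf2) hsame hno ?_) ?_
  · refine ⟨j, hj, x * j * x⁻¹, mul_mem (mul_mem hx.mem hj) (inv_mem hx.mem), hj2, ?_, fun e => ?_⟩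
    · rw [← MulAut.conj_apply, MulEquiv.orderOf_eq, hj2]
    · refine not_stabilizes hX h64 hx (half hX h64 hj hj2) fun v hv => ?_
      rw [e, ← img_Fix]
      exact ⟨v, hv, rfl⟩
  · set C := centralizer ({⟨j, hj⟩} : Set X)
    intro P
    set e : C ≃* C.map X.subtype := C.equivMapOfInjective X.subtype X.subtype_injective
    have h1 := closed_of_no_RP (C.map X.subtype) (fun r y h =>
      not_stabilizes hX h64 (h.mono (map_subtype_le C)) (half hX h64 hj hj2) fun v hv => by
        obtain ⟨c, hc, rfl⟩ := h.mem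
        exact fix_mem_of_commute (congrArg Subtype.val (mem_centralizer_singleton_iff.mp hc).symm : Commute j c.1)
          hv)
      (P.mapSurjective (f := e.toMonoidHom) e.surjective)
    change ((P : Subgroup C).map e.toMonoidHom).Normal at h1
    have h2 := h1.comap e.toMonoidHom
    rw [comap_map_eq_self_of_injective e.injective] at h2
    exact h2

end Six

end Cfsg.Agent.RealGraph72
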